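import Groth.Agent.H13Serre.Push
import Groth.Agent.H12AlgSp.Presentation
import Groth.Agent.H12AlgSp.Bootstrap
import Mathlib.AlgebraicGeometry.ZariskisMainTheorem
import Mathlib.AlgebraicGeometry.QuasiAffine
import Mathlib.AlgebraicGeometry.Morphisms.LocalFlatDescent
import Mathlib.RingTheory.Flat.EquationalCriterion

/-!
Serre's criterion: a quasi-compact quasi-separated algebraic space without first cohomology of
quasi-coherent modules is affine.
-/

set_option autoImplicit false
set_option backward.isDefEq.respectTransparency false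
set_option linter.style.haveILetI false

universe u

open CategoryTheory CategoryTheory.Limits AlgebraicGeometry Opposite
open AlgSp Groth.Agent.H13AlgSp Groth.Agent.H12AlgSp Groth.Agent.H12AlgSp.BCMod Groth.Agent.H12AlgSp.SubExt
  Groth.Agent.H13EtMod

namespace Groth.Agent.H13Serre

/-- A morphism to an affine scheme from a quasi-affine scheme is an open immersion if it is bijective on functions. -/
theorem isOpenImmersion_of_isIso_appTop {R V : Scheme.{u}} [IsAffine V] (θ : R ⟶ V) [LocallyQuasiFinite θ]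
    [LocallyOfFiniteType θ] [IsSeparated θ] [QuasiCompact θ] [IsIso θ.appTop] : IsOpenImmersion θ := by
  have : IsAffine θ.normalization := isAffine_of_isAffineHom θ.fromNormalization
  have : CompactSpace R := QuasiCompact.compactSpace_of_compactSpace θ
  have : R.IsQuasiAffine := Scheme.IsQuasiAffine.of_isImmersion θ.toNormalization
  have h : θ = R.toSpecΓ ≫ Spec.map θ.appTop ≫ V.isoSpec.inv := by
    rw [← Category.assoc, ← Scheme.toSpecΓ_naturality, Category.assoc, ← Scheme.isoSpec_hom, Iso.hom_inv_id,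
      Category.comp_id]
  rw [h]
  infer_instance

/-- A flat map is faithfully flat if elements generating the unit ideal upstairs generate it downstairs. -/
theorem faithfullyFlat_of_unit_ideal {A B : Type u} [CommRing A] [CommRing B] (φ : A →+* B) (hflat : φ.Flat)
    (h : ∀ (n : ℕ) (b : Fin n → B) (f : Fin n → A), ∑ i, b i * φ (f i) = 1 →
      ∃ c : Fin n → A, ∑ i, c i * f i = 1) : φ.FaithfullyFlat := by
  algebraize [φ]
  refine (RingHom.faithfullyFlat_algebraMap_iff (R := A) (S := B)).2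
    { toFlat := hflat, submodule_ne_top := fun m hm htop => hm.ne_top ?_ }
  rw [Ideal.smul_top_eq_map, Submodule.restrictScalars_eq_top_iff, Ideal.eq_top_iff_one, Ideal.map] at htop
  obtain ⟨n, b, g, hg⟩ := Submodule.mem_span_set'.1 htop
  choose f hfm hfg using fun i => (g i).2
  have h' : ∑ i, b i * φ (f i) = 1 := by
    rw [← hg]
    refine Finset.sum_congr rfl fun i _ => ?_
    rw [← hfg i, smul_eq_mul]
    rfl
  obtain ⟨c, hc⟩ := h n b f h'
  rw [Ideal.eq_top_iff_one, ← hc]
  exact Ideal.sum_mem _ fun i _ => Ideal.mul_mem_left _ _ (hfm i)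

theorem flat_surjective_iso {R V : Scheme.{u}} (θ : R ⟶ V) [IsOpenImmersion θ] [Surjective θ] : IsIso θ :=
  have : Epi θ.base := (TopCat.epi_iff_surjective _).2 θ.surjective
  IsOpenImmersion.isIso θ

variable {S : Scheme.{u}} {X : Sp S} {E₀ : EtOver X}

theorem qMap_appTop_injective : Function.Injective (qMap E₀).appTop := by
  intro a b e
  rw [qMap_appTop, qMap_appTop] at e
  exact (ConcreteCategory.bijective_of_isIso (Scheme.ΓSpecIso (CommRingCat.of (gRing E₀))).hom).1 (Subtype.ext e)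

theorem exists_qMap_gf (f : Γ(Spec (CommRingCat.of (gRing E₀)), ⊤)) :
    ∃ z : ↥(gsectEt (OEt X)), upR E₀ ((qMap E₀).appTop f) = gf z E₀ := by
  obtain ⟨z, hz⟩ := ((Scheme.ΓSpecIso (CommRingCat.of (gRing E₀))).hom f : gRing E₀).2
  exact ⟨z, congrArg (upR E₀) ((qMap_appTop E₀ f).trans hz.symm)⟩

variable [QuasiSeparatedSpace S] (hX : IsAlgSpace X) (hqc : IsQuasiCompactSp X) (hqs : IsQuasiSeparatedSp X)

include hX hqc hqs in
theorem flat_qMap (h1 : VanH1 X) (h₀ : IsAtlas E₀) : (qMap E₀).appTop.hom.Flat := by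
  classical
  algebraize [(qMap E₀).appTop.hom]
  change Module.Flat Γ(Spec (CommRingCat.of (gRing E₀)), ⊤) Γ(E₀.obj.left.left, ⊤)
  refine Module.Flat.of_forall_isTrivialRelation fun {l f x} h => ?_
  choose z hz using fun i => exists_qMap_gf (f i)
  choose sj hsj using fun i : Fin l => (⟨PresheafOfModules.sectionsMk
    (fun E => (gf (z i) E.unop : (OEt X).obj.obj E)) (fun E E' g => gf_natural (z i) g.unop), fun _ => rfl⟩ :
    ∃ s : (unitModEt X).sections, ∀ E : EtOver X, (show OSec E from sv s E) = gf (z i) E)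
  have hU : (unitModEt X).IsQuasicoherent :=
    (isQuasicoherent_iff_isBCEt _).2 fun _ _ g _ _ => isBC_unit g
  have h0 : ∑ i, upR E₀ (x i) • sv (sj i) E₀ = 0 := by
    refine Eq.trans (Finset.sum_congr rfl fun i _ => ?_)
      ((map_sum (upR E₀) _ _).symm.trans ((congrArg (upR E₀) h).trans (map_zero _)))
    change upR E₀ (x i) * (show OSec E₀ from sv (sj i) E₀) = upR E₀ ((qMap E₀).appTop (f i) * x i)
    rw [hsj, map_mul, hz, mul_comm]
  obtain ⟨m, a, b', hb1, hb2⟩ := exists_relation hX hqc hqs h1 h₀ hU sj _ h0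
  let dn : OSec E₀ ≃+* Γ(E₀.obj.left.left, ⊤) := ULift.ringEquiv
  refine ⟨m, fun i j => specFn E₀ (a i j), fun j => dn (b' j), fun i => ?_, fun j => ?_⟩
  · have h2 := congrArg dn (hb1 i)
    rw [map_sum] at h2
    refine h2.trans (Finset.sum_congr rfl fun j _ => ?_)
    rw [map_mul]
    change GlobalFun.val (a i j) E₀ * dn (b' j) = (qMap E₀).appTop (specFn E₀ (a i j)) * dn (b' j)
    rw [qMap_specFn]
  · refine qMap_appTop_injective ?_
    rw [map_sum, map_zero]
    refine (ULift.ringEquiv.{u, u + 1} (R := Γ(E₀.obj.left.left, ⊤))).symm.injective ?_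
    rw [map_sum, map_zero]
    refine Eq.trans (Finset.sum_congr rfl fun i _ => ?_) (hb2 j)
    change upR E₀ ((qMap E₀).appTop (f i * specFn E₀ (a i j))) = gf (a i j) E₀ * (show OSec E₀ from sv (sj i) E₀)
    rw [map_mul, map_mul, qMap_specFn, hsj, hz]
    exact mul_comm _ _

include hX hqc hqs in
theorem faithfullyFlat_qMap (h1 : VanH1 X) (h₀ : IsAtlas E₀) : (qMap E₀).appTop.hom.FaithfullyFlat := by
  classical
  refine faithfullyFlat_of_unit_ideal _ (flat_qMap hX hqc hqs h1 h₀) fun n b f hbf => ?_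
  choose z hz using fun i => exists_qMap_gf (f i)
  have h : ∑ i, upR E₀ (b i) * gf (z i) E₀ = 1 := by
    refine Eq.trans (Finset.sum_congr rfl fun i _ => ?_)
      ((map_sum (upR E₀) _ _).symm.trans ((congrArg (upR E₀) hbf).trans (map_one _)))
    rw [← hz, map_mul]
  obtain ⟨c, hc⟩ := exists_one_eq hX hqc hqs h1 h₀ z _ h
  let dn : OSec E₀ ≃+* Γ(E₀.obj.left.left, ⊤) := ULift.ringEquiv
  refine ⟨fun i => specFn E₀ (c i), qMap_appTop_injective ?_⟩
  have hc2 : ∑ i, dn (gf (c i) E₀ * gf (z i) E₀) = 1 :=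
    (map_sum dn (fun i => gf (c i) E₀ * gf (z i) E₀) Finset.univ).symm.trans ((congrArg dn hc).trans (map_one dn))
  have hterm : ∀ i, (qMap E₀).appTop.hom (specFn E₀ (c i) * f i) = dn (gf (c i) E₀ * gf (z i) E₀) := fun i => by
    refine (map_mul (qMap E₀).appTop.hom _ _).trans ?_
    exact congrArg₂ (· * ·) (qMap_specFn E₀ (c i)) (congrArg dn (hz i))
  exact ((map_sum (qMap E₀).appTop.hom _ _).trans ((Finset.sum_congr rfl fun i _ => hterm i).trans hc2)).trans
    (map_one (qMap E₀).appTop.hom).symm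

include hX hqc hqs in
/-- Serre's criterion for algebraic spaces. -/
theorem exists_iso_affine (h1 : VanH1 X) :
    ∃ T : Over S, IsAffine T.left ∧ Nonempty ((yon S).obj T ≅ X) := by
  obtain ⟨E₀, h₀⟩ := exists_isAtlas hX hqc
  have hE₀ : IsAffine E₀.obj.left.left := h₀.1
  let q := qMap E₀
  have hps : RepWith @Surjective E₀.obj.hom := repWith_surjective_of_map E₀.property.1 fun z => by
    obtain ⟨u, hu⟩ := h₀.2 z
    exact ⟨_, (Points.ofPt_eq_map_ofScheme _ u).symm.trans hu⟩
  obtain ⟨R, s, t, sq, θ, hθ₁, hθ₂, hθ⟩ :=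
    exists_theta hX hqc hqs h1 h₀ (𝟙 E₀.obj.left) E₀.obj.hom (by rw [CategoryTheory.Functor.map_id, Category.id_comp])
  have : Etale s.left := E₀.property.property _ _ s sq.flip
  have : CompactSpace R.left := compactSpace_of_isPullback' hqs sq
  have : R.left.IsSeparated := isSeparated_of_pair s.left t.left (mono_pair sq)
  have : Mono θ := ⟨fun {Z} x y e => mono_pair sq Z x y
    (by rw [← hθ₁, ← Category.assoc, e, Category.assoc]) (by rw [← hθ₂, ← Category.assoc, e, Category.assoc])⟩
  have : LocallyOfFiniteType θ := by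
    have : LocallyOfFiniteType (θ ≫ pullback.fst ((𝟙 E₀.obj.left : E₀.obj.left ⟶ E₀.obj.left).left ≫ q) q) := by
      rw [hθ₁]; infer_instance
    exact locallyOfFiniteType_of_comp θ (pullback.fst ((𝟙 E₀.obj.left : E₀.obj.left ⟶ E₀.obj.left).left ≫ q) q)
  have : LocallyQuasiFinite θ := by
    have : LocallyQuasiFinite (θ ≫ pullback.fst ((𝟙 E₀.obj.left : E₀.obj.left ⟶ E₀.obj.left).left ≫ q) q) := by
      rw [hθ₁]; exact lqf_of_etale s.left
    exact LocallyQuasiFinite.of_comp θ (pullback.fst ((𝟙 E₀.obj.left : E₀.obj.left ⟶ E₀.obj.left).left ≫ q) q)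
  have : QuasiCompact θ := (quasiCompact_iff_compactSpace θ).2 inferInstance
  have : IsOpenImmersion θ := isOpenImmersion_of_isIso_appTop θ
  -- surjectivity, on fibres over field valued points of the chart
  have hsurj : Surjective θ := ⟨fun v => by
    let k := (pullback ((𝟙 E₀.obj.left : E₀.obj.left ⟶ E₀.obj.left).left ≫ q) q).residueField v
    let z := (pullback ((𝟙 E₀.obj.left : E₀.obj.left ⟶ E₀.obj.left).left ≫ q) q).fromSpecResidueField v
    let z₁ : Spec k ⟶ E₀.obj.left.left := z ≫ pullback.fst _ _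
    let z₂ : Spec k ⟶ E₀.obj.left.left := z ≫ pullback.snd _ _
    let T : Over S := Over.mk (z₁ ≫ E₀.obj.left.hom)
    have : IsAffine T.left := inferInstanceAs (IsAffine (Spec k))
    let l : T ⟶ E₀.obj.left := Over.homMk z₁ rfl
    obtain ⟨W, a, b, sqW, η, hη₁, hη₂, hη⟩ := exists_theta hX hqc hqs h1 h₀ l _ rfl
    have : Etale a.left := E₀.property.property _ _ a sqW.flip
    have : CompactSpace W.left := compactSpace_of_isPullback' hqs sqW
    have : W.left.IsSeparated := isSeparated_of_pair a.left b.left (mono_pair sqW)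
    let a₀ : W.left ⟶ Spec k := a.left
    have : Etale a₀ := ‹Etale a.left›
    have : LocallyQuasiFinite a₀ := lqf_of_etale a₀
    have : QuasiCompact a₀ := (quasiCompact_iff_compactSpace a₀).2 inferInstance
    have : IsFinite a₀ := IsFinite.of_locallyQuasiFinite a₀
    have : IsAffine W.left := isAffine_of_isAffineHom a₀
    have : IsIso η := (MorphismProperty.arrow_mk_iso_iff (MorphismProperty.isomorphisms Scheme.{u})
      (arrowIsoSpecΓOfIsAffine η)).2 (show IsIso (Spec.map η.appTop) from inferInstance)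
    let j : Spec k ⟶ pullback (l.left ≫ qMap E₀) (qMap E₀) := pullback.lift (𝟙 _) z₂ (by
      change 𝟙 (Spec k) ≫ z₁ ≫ qMap E₀ = z₂ ≫ qMap E₀
      rw [Category.id_comp]
      simp only [z₁, z₂, Category.assoc]
      have := pullback.condition (f := (𝟙 E₀.obj.left : E₀.obj.left ⟶ E₀.obj.left).left ≫ q) (g := q)
      rw [Over.id_left, Category.id_comp] at this
      exact congrArg (z ≫ ·) this)
    let w : Spec k ⟶ W.left := j ≫ inv η
    have hw₁ : w ≫ a.left = 𝟙 _ := by rw [← hη₁]; simp [w, j]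
    have hw₂ : w ≫ b.left = z₂ := by rw [← hη₂]; simp [w, j]
    obtain ⟨r, hr⟩ := (yon S).map_surjective (sq.lift ((yon S).map (a ≫ l)) ((yon S).map b) (by
      rw [Functor.map_comp, Category.assoc]; exact sqW.w))
    have hr₁ : r ≫ s = a ≫ l := (yon S).map_injective (by rw [Functor.map_comp, hr, sq.lift_fst])
    have hr₂ : r ≫ t = b := (yon S).map_injective (by rw [Functor.map_comp, hr, sq.lift_snd])
    have hz : (w ≫ r.left) ≫ θ = z := by
      apply pullback.hom_ext
      · rw [Category.assoc, hθ₁, Category.assoc, ← Over.comp_left, hr₁, Over.comp_left, ← Category.assoc, hw₁,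
          Category.id_comp]
        rfl
      · rw [Category.assoc, hθ₂, Category.assoc, ← Over.comp_left, hr₂, hw₂]
    refine ⟨(w ≫ r.left) (IsLocalRing.closedPoint _), ?_⟩
    rw [← Scheme.Hom.comp_apply, hz]
    exact Scheme.fromSpecResidueField_apply _ _⟩
  have : IsIso θ := flat_surjective_iso θ
  have sqR : IsPullback s.left t.left q q := by
    have h : IsPullback s.left t.left ((𝟙 E₀.obj.left : E₀.obj.left ⟶ E₀.obj.left).left ≫ q) q :=
      IsPullback.of_iso_pullback ⟨by rw [← hθ₁, ← hθ₂, Category.assoc, pullback.condition, Category.assoc]⟩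
        (asIso θ) hθ₁ hθ₂
    rwa [Over.id_left, Category.id_comp] at h
  obtain ⟨hqf, hqsurj⟩ := (Flat.flat_and_surjective_iff_faithfullyFlat_of_isAffine (f := q)).2
    (faithfullyFlat_qMap hX hqc hqs h1 h₀)
  have : QuasiCompact q := (quasiCompact_iff_compactSpace q).2 inferInstance
  have hqe : Etale q := MorphismProperty.of_isPullback_of_descendsAlong (P := @Etale)
    (Q := @Surjective ⊓ @Flat ⊓ @QuasiCompact) sqR ⟨⟨‹Surjective q›, ‹Flat q›⟩, ‹QuasiCompact q›⟩ ‹Etale s.left›
  -- the structure map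
  have hdesc : ∀ {Z : Scheme.{u}} (g₁ g₂ : Z ⟶ E₀.obj.left.left), g₁ ≫ q = g₂ ≫ q →
      g₁ ≫ E₀.obj.left.hom = g₂ ≫ E₀.obj.left.hom := fun {Z} g₁ g₂ e => by
    obtain ⟨r, hr₁, hr₂⟩ : ∃ r : Z ⟶ R.left, r ≫ s.left = g₁ ∧ r ≫ t.left = g₂ :=
      ⟨sqR.lift g₁ g₂ e, sqR.lift_fst _ _ _, sqR.lift_snd _ _ _⟩
    rw [← hr₁, ← hr₂, Category.assoc, Category.assoc, Over.w s, Over.w t]
  let T : Over S := Over.mk (EffectiveEpi.desc q E₀.obj.left.hom @hdesc)
  let qo : E₀.obj.left ⟶ T := Over.homMk q (EffectiveEpi.fac q E₀.obj.left.hom @hdesc)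
  have sqo : IsPullback s t qo qo :=
    IsPullback.of_map (Over.forget S) (Over.OverMorphism.ext sqR.w) sqR
  have sqy := sqo.map (yon S)
  have hqe' : RepWith @Etale ((yon S).map qo) := (repWith_yon_map_iff _ _).2 hqe
  have hqs' : RepWith @Surjective ((yon S).map qo) := (repWith_yon_map_iff _ _).2 hqsurj
  obtain ⟨c₁⟩ := nonempty_isColimit_of_atlas E₀.property hps sq
  obtain ⟨c₂⟩ := nonempty_isColimit_of_atlas hqe' hqs' sqy
  exact ⟨T, inferInstanceAs (IsAffine (Spec (CommRingCat.of (gRing E₀)))),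
    ⟨IsColimit.coconePointUniqueUpToIso c₂ c₁⟩⟩

end Groth.Agent.H13Serre
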