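import Groth.Agent.H13AlgSp.CohSub
import Groth.Agent.H13AlgSp.CohColim
import Groth.Agent.H13EtMod.ModEtGroth

/-!
Cohomology of quasi-coherent modules vanishes when it does for coherent ones.
-/

set_option autoImplicit false
set_option backward.isDefEq.respectTransparency false
set_option linter.style.haveILetI false

universe u

open CategoryTheory CategoryTheory.Limits AlgebraicGeometry Opposite
open AlgSp Groth.Agent.H13AlgSp Groth.Agent.H12AlgSp Groth.Agent.H12AlgSp.BCMod

namespace Groth.Agent.H13Serre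

theorem subsingleton_h1_of_coh {S : Scheme.{u}} [QuasiSeparatedSpace ↥S] (X : Space S)
    (hqc : IsQuasiCompactSp X.obj) (hqs : IsQuasiSeparatedSp X.obj) (hN : IsLocNoethSp X.obj)
    (h1 : ∀ M : ModEt X.obj, M.IsFinitePresentation → Subsingleton (HModEt X.obj M 1))
    (M : ModEt X.obj) [M.IsQuasicoherent] : Subsingleton (HModEt X.obj M 1) := by
  obtain ⟨ι, _, _, F, hcof, -⟩ := CohSub.exists_cofinal X hqc hqs hN M
  obtain ⟨-, ⟨hc⟩⟩ := CohSub.isFiltered_and_isColimit X hqc hqs hN M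
  haveI : IsFilteredOrEmpty (CohSub.CohSubCat X M) := ⟨fun N N' => by
    obtain ⟨i, ⟨a⟩⟩ := hcof N
    obtain ⟨j, ⟨b⟩⟩ := hcof N'
    exact ⟨F.obj (i ⊔ j), a ≫ F.map (homOfLE le_sup_left), b ≫ F.map (homOfLE le_sup_right), trivial⟩,
    fun _ N' a b => ⟨N', 𝟙 _, Subsingleton.elim _ _⟩⟩
  haveI : IsFiltered (CohSub.CohSubCat X M) := { nonempty := ⟨F.obj (Classical.arbitrary ι)⟩ }
  haveI : F.Final := Functor.final_of_exists_of_isFiltered F hcof
    fun {N i} a b => ⟨i, 𝟙 i, Subsingleton.elim _ _⟩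
  have hc' := (Functor.Final.isColimitWhiskerEquiv F _).symm hc
  have := ZFree.preservesColimitsOfShape_HEtF X hqc hqs (J := ι) 1
  haveI : PreservesColimitsOfShape ι (toAbEt X.obj) := H13EtMod.preservesColimitsOfShape_toSheaf_modEt X.obj ι
  have hG := isColimitOfPreserves (toAbEt X.obj ⋙ HEtF X.obj 1) hc'
  refine AddCommGrpCat.subsingleton_of_isZero (G := (HEtF X.obj 1).obj ((toAbEt X.obj).obj M))
    ((IsZero.iff_id_eq_zero _).2 (hG.hom_ext fun i => ?_))
  have hz : IsZero ((HEtF X.obj 1).obj ((toAbEt X.obj).obj (F.obj i).obj.obj.left)) :=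
    haveI : Subsingleton ((HEtF X.obj 1).obj ((toAbEt X.obj).obj (F.obj i).obj.obj.left)) :=
      h1 _ (F.obj i).property
    AddCommGrpCat.isZero_of_subsingleton _
  exact hz.eq_of_src _ _

end Groth.Agent.H13Serre
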