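import Groth.Agent.H13Serre.Finite
import Groth.Agent.H13Serre.Affine
import Groth.Agent.H13Serre.Coh
import Groth.Agent.H13AlgSp.DecentDense
import Groth.Agent.H13AlgSp.RedInduced
import Groth.Agent.H12AlgSp.AffImm.Dense
import Groth.Agent.H12AlgSp.SchImageApps
import Groth.Agent.H12AlgSp.QSPullback
import Groth.Agent.H12AlgSp.LimitScheme

/-!
A space receiving a finite surjection from an affine scheme is affine (Noetherian case).
-/

set_option autoImplicit false
set_option backward.isDefEq.respectTransparency false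
set_option linter.style.haveILetI false

universe u

open CategoryTheory CategoryTheory.Limits AlgebraicGeometry Opposite
open AlgSp Groth.Agent.H13AlgSp Groth.Agent.H12AlgSp Groth.Agent.H12AlgSp.BCMod Groth.Agent.H12AlgSp.SubExt
  Groth.Agent.H13EtMod

namespace Groth.Agent.H13Serre

variable {S : Scheme.{u}}

/-- A nonempty reduced decent space has a nonempty affine reduced open subscheme. -/
theorem exists_open_affine {X : Sp S} (hX : IsAlgSpace X) (hd : IsDecent X) (hred : IsReducedSp X)
    [Nonempty (Points X)] :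
    ∃ E : EtOver X, IsAffine E.obj.left.left ∧ Nonempty E.obj.left.left ∧ IsReduced E.obj.left.left ∧
      RepWith @IsOpenImmersion E.obj.hom := by
  obtain ⟨W', Y, μ, hμ, hW', x, hx, -⟩ :=
    exists_open_scheme_meeting hX hd (W := Set.univ) isOpen_univ Set.univ_nonempty
  let j : (yon S).obj Y ⟶ X := μ ≫ openSubι W'
  have hj : RepWith @IsOpenImmersion j := repWith_comp (repWith_of_isIso _) (repWith_openSubι hW')
  obtain ⟨x', -⟩ := (range_openSubι hX W').ge hx
  obtain ⟨y, -⟩ := (Points.schemeEquiv Y).surjective (Points.map (inv μ) x')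
  obtain ⟨O, hO, hy, -⟩ := exists_isAffineOpen_mem_and_subset (TopologicalSpace.Opens.mem_top y)
  have hjO : RepWith @IsOpenImmersion ((yon S).map (openIncl Y O) ≫ j) :=
    repWith_comp ((repWith_yon_map_iff _ _).2 (inferInstanceAs (IsOpenImmersion O.ι))) hj
  have het : RepWith @Etale ((yon S).map (openIncl Y O) ≫ j) :=
    repWith_le (fun _ _ k (_ : IsOpenImmersion k) => inferInstanceAs (Etale k)) hjO
  exact ⟨EtOver.mk _ het, hO, ⟨⟨y, hy⟩⟩, isReduced_of_chart hX hred het, hjO⟩

/-- An affine open subscheme on which two coherent modules are free. -/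
theorem exists_free_pair {X : Sp S} (hX : IsAlgSpace X) (hd : IsDecent X) (hred : IsReducedSp X)
    [Nonempty (Points X)] (hN : IsLocNoethSp X) (M M' : ModEt X) [M.IsFinitePresentation] [M'.IsFinitePresentation] :
    ∃ E : EtOver X, IsAffine E.obj.left.left ∧ Nonempty E.obj.left.left ∧
      RepWith @IsOpenImmersion E.obj.hom ∧ Module.Free (OSec E) ((pm M).obj (op E)) ∧
      Module.Free (OSec E) ((pm M').obj (op E)) := by
  obtain ⟨E, hE, hne, hEr, hj⟩ := exists_open_affine hX hd hred
  have := (isFinitePresentation_iff (M := M) inferInstance).1 inferInstance E hE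
  obtain ⟨E₁, g₁, hE₁, hne₁, hr₁, ho₁, hf₁⟩ := exists_free_open (isBCEt_of_fp M) E hE
  have := (isFinitePresentation_iff (M := M') inferInstance).1 inferInstance E₁ hE₁
  obtain ⟨E₂, g₂, hE₂, hne₂, -, ho₂, hf₂⟩ := exists_free_open (isBCEt_of_fp M') E₁ hE₁
  refine ⟨E₂, hE₂, hne₂, ?_, free_of_hom (isBCEt_of_fp M) g₂ hE₂ hE₁, hf₂⟩
  have h₁ : RepWith @IsOpenImmersion E₁.obj.hom := by
    rw [← EtOver.w g₁]
    exact repWith_comp ((repWith_yon_map_iff _ _).2 ho₁) hj
  rw [← EtOver.w g₂]
  exact repWith_comp ((repWith_yon_map_iff _ _).2 ho₂) h₁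

section Multiplier

variable {X : Sp S} {T : Over S} {g : (yon S).obj T ⟶ X}

theorem appE_push_smulEnd (hg : Representable g) (a : ↥(gsectEt (OEt ((yon S).obj T))))
    (P : ModEt ((yon S).obj T)) (E : EtOver X) (y : (pm P).obj (op (bcO hg E))) :
    appE ((pushModEt hg).map (smulEnd a P)) E y = gf a (bcO hg E) • y := rfl

/-- A function vanishing over a closed subspace has a power killing a module killed by a power of its ideal. -/
theorem exists_multiplier (hX : IsAlgSpace X) (hqc : IsQuasiCompactSp X) (hfin : IsFiniteMor g)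
    (hg : Representable g) {Z : Sp S} {i : Z ⟶ X} {I : IdealEt X} (hZ : IsCutOutBy I i) (c : Γ(T.left, ⊤))
    (hc : ∀ t : T.left, Points.ofPt g t ∈ Set.range (Points.map i) → t ∉ T.left.basicOpen c)
    (P : ModEt ((yon S).obj T)) [P.IsQuasicoherent] (hq : ((pushModEt hg).obj P).IsQuasicoherent) {C : ModEt X}
    (π : (pushModEt hg).obj P ⟶ C) (n : ℕ)
    (hk : ∀ (E : EtOver X) (hE : IsAffine E.obj.left.left) (s : sectModEt C E), (I ^ n).ideal E hE ≤ annSect s) :
    ∃ (N : ℕ) (a : ↥(gsectEt (OEt ((yon S).obj T)))),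
      (∀ V : EtOver ((yon S).obj T), GlobalFun.val a V = ((yon S).preimage V.obj.hom).left.appTop (c ^ N)) ∧
        (pushModEt hg).map (smulEnd a P) ≫ π = 0 := by
  obtain ⟨E₀, h₀⟩ := exists_isAtlas hX hqc
  have hE₀ : IsAffine E₀.obj.left.left := h₀.1
  have : IsAffine (bcO hg E₀).obj.left.left := isAffine_bc hg hfin E₀
  let B := (bcO hg E₀).obj.left.left
  let φ : Γ(E₀.obj.left.left, ⊤) →+* Γ(B, ⊤) := (toU hg E₀).left.appTop.hom
  let J : Ideal Γ(E₀.obj.left.left, ⊤) := I.ideal E₀ hE₀ ^ n
  let c₀ : Γ(B, ⊤) := (toT hg E₀).left.appTop c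
  have hle : Ideal.span {c₀} ≤ (J.map φ).radical := by
    refine le_radical_of_zeroLocus_subset fun b hb => ?_
    rw [Scheme.zeroLocus_span, Scheme.mem_zeroLocus_iff]
    rintro _ rfl
    rw [Scheme.mem_zeroLocus_iff] at hb
    have hJ0 : (toU hg E₀).left b ∈ E₀.obj.left.left.zeroLocus (U := ⊤) (I.ideal E₀ hE₀ : Set Γ(E₀.obj.left.left, ⊤)) := by
      rw [Scheme.mem_zeroLocus_iff]
      intro f hf hbf
      have h1 := hb (φ (f ^ n)) (Ideal.mem_map_of_mem φ (Ideal.pow_mem_pow hf n))
      refine h1 ?_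
      have h2 : b ∈ B.basicOpen (φ f) := by
        rw [show B.basicOpen (φ f) = (toU hg E₀).left ⁻¹ᵁ E₀.obj.left.left.basicOpen f from
          (Scheme.preimage_basicOpen_top _ f).symm]
        exact hbf
      rw [Scheme.mem_basicOpen_top] at h2 ⊢
      rw [map_pow, map_pow]
      exact h2.pow n
    rw [zeroLocus_eq hZ] at hJ0
    have h3 : Points.ofPt g ((toT hg E₀).left b) = Points.ofPt E₀.obj.hom ((toU hg E₀).left b) := by
      rw [← ofPt_map, ← ofPt_map, (isPullback_toT hg E₀).w]
    intro hbc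
    refine hc _ (by rw [h3]; exact hJ0) ?_
    rw [← Scheme.preimage_basicOpen_top] at hbc
    exact hbc
  obtain ⟨N, hN⟩ := hle (Ideal.mem_span_singleton_self c₀)
  obtain ⟨a, ha⟩ := exists_gf_of_fn (S := S) (T := T) (c ^ N)
  refine ⟨N, a, ha, hom_eq_zero_of_atlas hX h₀ ((isQuasicoherent_iff_isBCEt _).1 hq) _ fun y => ?_⟩
  change appE π E₀ (appE ((pushModEt hg).map (smulEnd a P)) E₀ y) = 0
  rw [appE_push_smulEnd]
  have hval : GlobalFun.val a (bcO hg E₀) = c₀ ^ N := (ha _).trans (map_pow _ _ _)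
  rw [gf, hval]
  suffices key : ∀ r ∈ J.map φ, ∀ z : (pm P).obj (op (bcO hg E₀)),
      appE π E₀ (upR (bcO hg E₀) r • z) = 0 from key _ hN y
  intro r hr
  rw [Ideal.map] at hr
  induction hr using Submodule.span_induction with
  | mem r hr =>
    obtain ⟨b, hb, rfl⟩ := hr
    intro z
    refine ((appE π E₀).map_smul (upR E₀ b) z).trans ?_
    exact (annEl_upR _ b).1 (hk E₀ hE₀ _ hb)
  | zero => intro z; rw [map_zero, zero_smul]; exact map_zero _
  | add p q _ _ hp hq =>
    intro z
    rw [map_add, add_smul]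
    exact ((appE π E₀).map_add _ _).trans (by rw [hp, hq, add_zero])
  | smul p q _ hq =>
    intro z
    rw [smul_eq_mul, mul_comm p q, map_mul, mul_smul]
    exact hq _

/-- Multiplication by a function which is invertible over an object is surjective there. -/
theorem surjective_push_smulEnd (hg : Representable g) (c : Γ(T.left, ⊤))
    (a : ↥(gsectEt (OEt ((yon S).obj T))))
    (ha : ∀ V : EtOver ((yon S).obj T), GlobalFun.val a V = ((yon S).preimage V.obj.hom).left.appTop c)
    (P : ModEt ((yon S).obj T)) (E : EtOver X)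
    (hu : ∀ b : (bcO hg E).obj.left.left, (toT hg E).left b ∈ T.left.basicOpen c) :
    Function.Surjective (appE ((pushModEt hg).map (smulEnd a P)) E) := by
  have hunit : IsUnit (gf a (bcO hg E)) := by
    refine IsUnit.map (upR (bcO hg E)) ?_
    refine (bcO hg E).obj.left.left.toRingedSpace.isUnit_of_isUnit_germ ⊤ _ fun b _ => ?_
    have h := hu b
    change b ∈ (toT hg E).left ⁻¹ᵁ T.left.basicOpen c at h
    rw [Scheme.preimage_basicOpen_top, Scheme.mem_basicOpen_top] at h
    rw [ha]
    exact h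
  intro y
  obtain ⟨u, hu⟩ := hunit
  refine ⟨(↑u⁻¹ : OSec (bcO hg E)) • (show (pm P).obj (op (bcO hg E)) from y), ?_⟩
  refine (appE_push_smulEnd hg a P E _).trans ?_
  rw [← hu, smul_smul, Units.mul_inv, one_smul]

end Multiplier

section Comparison

variable {X : Sp S}

theorem off_cokernel {A B : ModEt X} [A.IsFinitePresentation] [B.IsFinitePresentation] (f : A ⟶ B)
    {Z : Set (Points X)}
    (h : ∀ E : EtOver X, IsAffine E.obj.left.left → InSet Zᶜ E → Function.Surjective (appE f E)) :
    Off (cokernel f) Z := by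
  intro E hE hin s
  have hq := ((qcoh_closure X).2.1 _ _ f inferInstance inferInstance).2
  obtain ⟨b, rfl⟩ := surjective_of_epi (Rsh := OEt X) (A := etAff X) (cokernel.π f) (isBCEt_of_fp B)
    ((isQuasicoherent_iff_isBCEt _).1 hq) hE s
  obtain ⟨a, rfl⟩ := h E hE hin b
  exact congrArg (fun φ : A ⟶ cokernel f => appE φ E a) (cokernel.condition f)

theorem off_kernel_of_injective (hX : IsAlgSpace X) (hN : IsLocNoethSp X) {E₁ : EtOver X}
    (hE₁ : IsAffine E₁.obj.left.left) {A B : ModEt X} [A.IsFinitePresentation] [B.IsFinitePresentation]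
    (f : A ⟶ B) (h : Function.Injective (appE f E₁)) :
    Off (kernel f) (Set.range (Points.ofPt E₁.obj.hom))ᶜ := by
  have := isFinitePresentation_kernel hX hN f
  refine off_of_subsingleton (isBCEt_of_fp _) hE₁ (subsingleton_of_forall_eq 0 fun s => ?_)
  refine mono_app_injective (Rsh := OEt X) (kernel.ι f) (op E₁) (h ?_)
  refine (congrArg (fun φ : kernel f ⟶ B => appE φ E₁ s) (kernel.condition f)).trans ?_
  exact ((congrArg (appE f E₁) (map_zero (appE (kernel.ι f) E₁))).trans (map_zero _)).symm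

theorem off_cokernel_of_surjective {E₁ : EtOver X} (hE₁ : IsAffine E₁.obj.left.left) {A B : ModEt X}
    [A.IsFinitePresentation] [B.IsFinitePresentation] (f : A ⟶ B) (h : Function.Surjective (appE f E₁)) :
    Off (cokernel f) (Set.range (Points.ofPt E₁.obj.hom))ᶜ := by
  have hq := ((qcoh_closure X).2.1 _ _ f inferInstance inferInstance).2
  refine off_of_subsingleton ((isQuasicoherent_iff_isBCEt _).1 hq) hE₁ (subsingleton_of_forall_eq 0 fun s => ?_)
  obtain ⟨b, rfl⟩ := surjective_of_epi (Rsh := OEt X) (A := etAff X) (cokernel.π f) (isBCEt_of_fp B)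
    ((isQuasicoherent_iff_isBCEt _).1 hq) hE₁ s
  obtain ⟨a, rfl⟩ := h b
  exact congrArg (fun φ : A ⟶ cokernel f => appE φ E₁ a) (cokernel.condition f)

theorem van_of_iso {M N : ModEt X} (e : M ≅ N) {q : ℕ} (h : Van N q) : Van M q :=
  van_retract e.hom e.inv e.hom_inv_id h

theorem van_of_hom (hX : IsAlgSpace X) (hN : IsLocNoethSp X) {E₁ : EtOver X}
    (hE₁ : IsAffine E₁.obj.left.left) {H P : ModEt X} [H.IsFinitePresentation] [P.IsFinitePresentation]
    (f : H ⟶ P) (hf : Function.Bijective (appE f E₁))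
    (hv : ∀ N : ModEt X, N.IsFinitePresentation → Off N (Set.range (Points.ofPt E₁.obj.hom))ᶜ →
      ∀ q, 0 < q → Van N q) :
    (Van H 1 → Van P 1) ∧ (Van (Abelian.image f) 1 → Van H 1) := by
  let f' := Abelian.factorThruImage f
  have := isFinitePresentation_cokernel hX hN f
  have hI : (Abelian.image f).IsFinitePresentation := isFinitePresentation_kernel hX hN (cokernel.π f)
  have hK := isFinitePresentation_kernel hX hN f'
  have hinj : Function.Injective (appE f' E₁) := fun a b e => hf.1 (by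
    have e2 := congrArg (appE (Abelian.image.ι f) E₁) e
    have h3 : ∀ a, appE (Abelian.image.ι f) E₁ (appE f' E₁ a) = appE f E₁ a := fun a =>
      congrArg (fun φ : H ⟶ P => appE φ E₁ a) (Abelian.image.fac f)
    rwa [h3, h3] at e2)
  have hk := hv _ hK (off_kernel_of_injective hX hN hE₁ f' hinj)
  let C := ShortComplex.mk (kernel.ι f') f' (kernel.condition f')
  have hC : C.ShortExact := { exact := ShortComplex.exact_of_f_is_kernel _ (kernelIsKernel f') }
  refine ⟨fun hH => ?_, fun hI' => van_middle hC (hk 1 one_pos) hI'⟩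
  let D := ShortComplex.mk (Abelian.image.ι f) (cokernel.π f) (kernel.condition _)
  have hD : D.ShortExact := { exact := ShortComplex.exact_of_f_is_kernel _ (kernelIsKernel _) }
  exact van_middle hD (van_right hC hH (hk 2 two_pos))
    (hv _ inferInstance (off_cokernel_of_surjective hE₁ f hf.2) 1 one_pos)

theorem van_image_of_multiplier (hX : IsAlgSpace X) (hN : IsLocNoethSp X) {H P : ModEt X}
    [H.IsFinitePresentation] [P.IsFinitePresentation] (f : H ⟶ P) (χ : P ⟶ P) (hχ : χ ≫ cokernel.π f = 0)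
    (hP : Van P 1) (hK : Van (kernel χ) 2) {Z : Set (Points X)}
    (hs : ∀ E : EtOver X, IsAffine E.obj.left.left → InSet Zᶜ E → Function.Surjective (appE χ E))
    (hv : ∀ N : ModEt X, N.IsFinitePresentation → Off N Z → ∀ q, 0 < q → Van N q) :
    Van (Abelian.image f) 1 := by
  let χ' : P ⟶ Abelian.image f := kernel.lift _ χ hχ
  have := isFinitePresentation_cokernel hX hN f
  have : (Abelian.image f).IsFinitePresentation := isFinitePresentation_kernel hX hN (cokernel.π f)
  have := isFinitePresentation_cokernel hX hN χ'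
  have hQ : (Abelian.image χ').IsFinitePresentation := isFinitePresentation_kernel hX hN (cokernel.π χ')
  have hK' : Van (kernel χ') 2 :=
    van_of_iso ((kernelCompMono χ' (Abelian.image.ι f)).symm ≪≫ kernelIsoOfEq (kernel.lift_ι _ _ _)) hK
  let e := Abelian.factorThruImage χ'
  have hK'' : Van (kernel e) 2 :=
    van_of_iso ((kernelCompMono e (Abelian.image.ι χ')).symm ≪≫ kernelIsoOfEq (Abelian.image.fac χ')) hK'
  let C := ShortComplex.mk (kernel.ι e) e (kernel.condition e)
  have hC : C.ShortExact := { exact := ShortComplex.exact_of_f_is_kernel _ (kernelIsKernel e) }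
  let D := ShortComplex.mk (Abelian.image.ι χ') (cokernel.π χ') (kernel.condition _)
  have hD : D.ShortExact := { exact := ShortComplex.exact_of_f_is_kernel _ (kernelIsKernel _) }
  refine van_middle hD (van_right hC hP hK'') (hv _ inferInstance (off_cokernel χ' fun E hE hin k => ?_) 1 one_pos)
  obtain ⟨y, hy⟩ := hs E hE hin (appE (Abelian.image.ι f) E k)
  refine ⟨y, mono_app_injective (Rsh := OEt X) (Abelian.image.ι f) (op E) ?_⟩
  exact (congrArg (fun φ : P ⟶ P => appE φ E y) (kernel.lift_ι _ χ hχ)).trans hy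

end Comparison

/-- The space is an affine scheme. -/
def IsAffSp (W : Space S) : Prop := ∃ T : Over S, IsAffine T.left ∧ Nonempty ((yon S).obj T ≅ W.obj)

/-- Every proper closed subspace is an affine scheme. -/
def AffBelow (X : Space S) : Prop :=
  ∀ (W : Space S) (i : W ⟶ X), RepWith @IsClosedImmersion i.hom →
    Set.range (Points.map i.hom) ≠ Set.univ → IsAffSp W

theorem AffBelow.van {X : Space S} (IH : AffBelow X) (hqc : IsQuasiCompactSp X.obj) (hN : IsLocNoethSp X.obj)
    {C : Set (Points X.obj)} (hC : IsClosed C) (hne : C ≠ Set.univ) (N : ModEt X.obj) [N.IsFinitePresentation]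
    (hoff : Off N C) (q : ℕ) (hq : 0 < q) : Van N q := by
  obtain ⟨Z, i, hZ, hi, hr, -⟩ := exists_isRedInduced X.property hC
  obtain ⟨TZ, hTZ, ⟨e⟩⟩ := IH ⟨Z, hZ⟩ (ObjectProperty.homMk i) hi
    (show Set.range (Points.map i) ≠ Set.univ from hr.symm ▸ hne)
  exact van_of_off (Z := ⟨Z, hZ⟩) hqc hN (ObjectProperty.homMk i) hi hTZ e N
    (show Off N (Set.range (Points.map i)) from hr.symm ▸ hoff) q hq

/-- Vanishing on a reduced space whose proper closed subspaces are affine. -/
theorem van_one_of_reduced [QuasiSeparatedSpace S] {X : Space S} (hqc : IsQuasiCompactSp X.obj)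
    (hqs : IsQuasiSeparatedSp X.obj) (hN : IsLocNoethSp X.obj) (hred : IsReducedSp X.obj) {T : Over S}
    (hT : IsAffine T.left) (g : (yon S).obj T ⟶ X.obj) (hfin : IsFiniteMor g)
    (hsurj : Function.Surjective (Points.map g)) (IH : AffBelow X) (M : ModEt X.obj) [M.IsFinitePresentation] :
    Van M 1 := by
  classical
  have hX := X.property
  rcases isEmpty_or_nonempty (Points X.obj) with hem | hem
  · refine van_of_isZero (isZero_of_sections fun E hE s => ?_) 1
    have : IsEmpty E.obj.left.left := ⟨fun e => hem.false (Points.ofPt E.obj.hom e)⟩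
    let dn : OSec E ≃+* Γ(E.obj.left.left, ⊤) := ULift.ringEquiv
    have hs : Subsingleton Γ(E.obj.left.left, ⊤) := inferInstance
    have : Subsingleton (OSec E) := ⟨fun x y => dn.injective (@Subsingleton.elim _ hs _ _)⟩
    exact (one_smul (OSec E) s).symm.trans (by rw [Subsingleton.elim (1 : OSec E) 0, zero_smul])
  have hr : RepWith @IsFinite g := isFiniteMor_iff.1 hfin
  have hg : Representable g := hr.1
  have hd : IsDecent X.obj := isDecent_of_isQuasiSeparatedSp hX hqs
  have hNT : IsLocNoethSp ((yon S).obj T) := isLocNoethSp_of_lft (IsAlgSpace.yon_obj T) hX hN (g := g)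
    (locP_of_repWith etLocal_lft
      (repWith_le (fun _ _ k (_ : IsFinite k) => inferInstanceAs (LocallyOfFiniteType k)) hr))
  let U := unitModEt ((yon S).obj T)
  have : U.IsFinitePresentation := isFinitePresentation_unit (IsAlgSpace.yon_obj T) hNT
  have hfp := fun (P : ModEt ((yon S).obj T)) (_ : P.IsFinitePresentation) =>
    isFinitePresentation_push (IsAlgSpace.yon_obj T) hX hg hfin hN P
  have := hfp U inferInstance
  obtain ⟨E₁, hE₁, hne₁, hj, hf₁, hf₂⟩ := exists_free_pair hX hd hred hN M ((pushModEt hg).obj U)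
  have : Nontrivial Γ(E₁.obj.left.left, ⊤) := by
    rw [← PrimeSpectrum.nonempty_iff_nontrivial]
    exact hne₁.map E₁.obj.left.left.isoSpec.hom
  let dn : OSec E₁ ≃+* Γ(E₁.obj.left.left, ⊤) := ULift.ringEquiv
  have : Nontrivial (OSec E₁) := dn.surjective.nontrivial
  have := finite_sec M E₁ (hE := hE₁)
  have := finite_sec ((pushModEt hg).obj U) E₁ (hE := hE₁)
  obtain ⟨e⟩ := hne₁
  let m := Module.finrank (OSec E₁) ((pm M).obj (op E₁))
  let r := Module.finrank (OSec E₁) ((pm ((pushModEt hg).obj U)).obj (op E₁))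
  -- the rank of the functions on the cover is positive
  obtain ⟨t₀, ht₀⟩ : ∃ t : T.left, Points.ofPt g t = Points.ofPt E₁.obj.hom e := by
    obtain ⟨x, hx⟩ := hsurj (Points.ofPt E₁.obj.hom e)
    obtain ⟨t, rfl⟩ := (Points.schemeEquiv T).surjective x
    exact ⟨t, (Points.ofPt_eq_map_ofScheme g t).trans hx⟩
  have hrpos : 0 < r := by
    obtain ⟨p, hp₁, hp₂⟩ := exists_point_of_isPullback (isPullback_toT hg E₁) (Points.ofScheme T t₀)
      (Points.ofScheme E₁.obj.left e)
      ((Points.ofPt_eq_map_ofScheme g t₀).symm.trans (ht₀.trans (Points.ofPt_eq_map_ofScheme E₁.obj.hom e)))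
    obtain ⟨v, rfl⟩ := (Points.schemeEquiv (bcO hg E₁).obj.left).surjective p
    have := isAffine_bc hg hfin E₁
    have : Nontrivial Γ((bcO hg E₁).obj.left.left, ⊤) := by
      rw [← PrimeSpectrum.nonempty_iff_nontrivial]
      exact ⟨(bcO hg E₁).obj.left.left.isoSpec.hom v⟩
    let dnB : OSec (bcO hg E₁) ≃+* Γ((bcO hg E₁).obj.left.left, ⊤) := ULift.ringEquiv
    have : Nontrivial (OSec (bcO hg E₁)) := dnB.surjective.nontrivial
    refine Nat.pos_of_ne_zero fun h0 => ?_
    let b := Module.finBasisOfFinrankEq (OSec E₁) ((pm ((pushModEt hg).obj U)).obj (op E₁)) h0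
    have : Subsingleton ((pm ((pushModEt hg).obj U)).obj (op E₁)) := b.repr.toEquiv.subsingleton
    exact not_subsingleton (OSec (bcO hg E₁)) this
  let P := pow U m
  have : P.IsFinitePresentation := isFinitePresentation_pow (IsAlgSpace.yon_obj T) hNT U m
  have := hfp P inferInstance
  have := isFinitePresentation_pow hX hN M r
  obtain ⟨h₁, -, h₁'⟩ := free_pow (pushModEt hg) U E₁ m
  have : Module.Free (OSec E₁) ((pm ((𝟭 (ModEt X.obj)).obj M)).obj (op E₁)) := hf₁
  have : Module.Finite (OSec E₁) ((pm ((𝟭 (ModEt X.obj)).obj M)).obj (op E₁)) := finite_sec M E₁ (hE := hE₁)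
  obtain ⟨h₂, -, h₂'⟩ := free_pow (𝟭 (ModEt X.obj)) M E₁ r
  have : Module.Free (OSec E₁) ((pm (pow M r)).obj (op E₁)) := h₂
  obtain ⟨H, q₁, q₂, hH, hb₁, hb₂⟩ := exists_graph hX hqc hqs hN ((pushModEt hg).obj P) (pow M r) hj hE₁
    (h₁'.trans ((mul_comm _ _).trans h₂'.symm))
  -- the closed complement of the open subscheme
  let Z := (Set.range (Points.ofPt E₁.obj.hom))ᶜ
  have hZc : IsClosed Z := (H12AlgSp.isOpen_range_ofPt E₁).isClosed_compl
  have hvZ := fun (N : ModEt X.obj) (hN' : N.IsFinitePresentation) (h : Off N Z) =>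
    IH.van hqc hN hZc (fun h' => (h'.ge (Set.mem_univ (Points.ofPt E₁.obj.hom e))) ⟨e, rfl⟩) N h
  obtain ⟨hA, hB⟩ := van_of_hom hX hN hE₁ q₁ hb₁ hvZ
  suffices hI : Van (Abelian.image q₁) 1 by
    obtain ⟨i, r', hir⟩ := exists_pow_retract M r hrpos
    exact van_retract i r' hir ((van_of_hom hX hN hE₁ q₂ hb₂ hvZ).1 (hB hI))
  -- the multiplier
  obtain ⟨Zs, iZ, hZs, hiZ, hrZ, -⟩ := exists_isRedInduced hX hZc
  let I := idealOfRep hiZ.1
  have hcut : IsCutOutBy I iZ := ⟨hiZ, rfl⟩
  have := isFinitePresentation_cokernel hX hN q₁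
  obtain ⟨n, hn⟩ := exists_kills hX hqc hN (isQCoh_of_isCutOutBy hcut) hcut (cokernel q₁) fun x hx hxT =>
    isZero_stalk_of_off hX hZc (off_cokernel_of_surjective hE₁ q₁ hb₁.2) x hx (hrZ ▸ hxT)
  obtain ⟨c, hc₁, hc₂⟩ := exists_fn (W := T.left) (C := Points.ofPt g ⁻¹' Z)
    (Φ := {t | Points.ofPt g t = Points.ofPt E₁.obj.hom e}) (hZc.preimage (Points.continuous_ofPt g))
    (finite_fibre hr E₁ e) (Set.disjoint_left.2 fun t ht ht' => ht ⟨e, ht'.symm⟩)
  obtain ⟨k, a, ha, hχ⟩ := exists_multiplier hX hqc hfin hg hcut c (fun t ht => hc₁ t (hrZ.le ht)) P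
    (inferInstanceAs ((pushModEt hg).obj P).IsQuasicoherent) (cokernel.π q₁) n hn
  let Z' : Set (Points X.obj) := Points.ofPt g '' {t | t ∉ T.left.basicOpen c}
  have hZ'c : IsClosed Z' := by
    have h := (isClosedMap_map_of_repWith (P := @IsFinite) (fun _ _ l (_ : IsFinite l) => inferInstance) hr).comp
      (Points.schemeHomeo T).isClosedMap _ (T.left.basicOpen c).2.isClosed_compl
    refine Eq.mp (congrArg IsClosed (Set.image_congr fun t _ => ?_)) h
    exact (Points.ofPt_eq_map_ofScheme g t).symm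
  have hvZ' := fun (N : ModEt X.obj) (hN' : N.IsFinitePresentation) (h : Off N Z') =>
    IH.van hqc hN hZ'c (fun h' => by
      obtain ⟨t, ht, ht'⟩ := h'.ge (Set.mem_univ (Points.ofPt E₁.obj.hom e))
      exact ht (hc₂ t ht')) N h
  have hPT : IsAffineMor g := H13AlgSp.isAffineMor_iff.2
    (repWith_le (fun _ _ l (_ : IsFinite l) => inferInstanceAs (IsAffineHom l)) hr)
  have hvan : ∀ (G : ModEt ((yon S).obj T)) [G.IsQuasicoherent] (q : ℕ), 0 < q → Van ((pushModEt hg).obj G) q := by
    intro G _ q hq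
    let Ts : Space S := ⟨(yon S).obj T, IsAlgSpace.yon_obj T⟩
    have hG : Van (X := Ts.obj) G q := Groth.Agent.S10754.result Ts T hT (Iso.refl _) G q hq
    obtain ⟨e'⟩ := Groth.Agent.S10751.result (X := Ts) (ObjectProperty.homMk g) hg hPT G q
    exact ⟨fun x y => e'.symm.injective (@Subsingleton.elim _ hG _ _)⟩
  have := preservesFiniteLimits_push hg
  have hPq : P.IsQuasicoherent := inferInstance
  have := ((qcoh_closure _).2.1 _ _ (smulEnd a P) hPq hPq).1
  refine van_image_of_multiplier hX hN q₁ _ hχ (hvan P 1 one_pos)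
    (van_of_iso (PreservesKernel.iso (pushModEt hg) (smulEnd a P)).symm (hvan _ 2 two_pos))
    (Z := Z') (fun E hE hin => surjective_push_smulEnd hg (c ^ k) a ha P E fun b => ?_) hvZ'
  by_contra hb
  refine hin ((toU hg E).left b) ⟨(toT hg E).left b, fun hbc => hb ?_, ?_⟩
  · rw [Scheme.mem_basicOpen_top, map_pow]
    exact ((Scheme.mem_basicOpen_top _ _ _).1 hbc).pow k
  · rw [← ofPt_map, ← ofPt_map, (isPullback_toT hg E).w]

/-- Closed subspaces inherit a finite surjection from an affine scheme and Noetherianity. -/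
theorem exists_data_closed {X W : Space S} (hqc : IsQuasiCompactSp X.obj) (hqs : IsQuasiSeparatedSp X.obj)
    (hN : IsLocNoethSp X.obj) {T : Over S} (hT : IsAffine T.left) {g : (yon S).obj T ⟶ X.obj}
    (hfin : IsFiniteMor g) (hsurj : Function.Surjective (Points.map g)) (i : W ⟶ X)
    (hi : RepWith @IsClosedImmersion i.hom) :
    ∃ (T' : Over S) (g' : (yon S).obj T' ⟶ W.obj), IsAffine T'.left ∧ IsFiniteMor g' ∧
      Function.Surjective (Points.map g') ∧ IsQuasiCompactSp W.obj ∧ IsQuasiSeparatedSp W.obj ∧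
      IsLocNoethSp W.obj := by
  obtain ⟨T', s, g', sq⟩ := hi.1 g
  have : IsClosedImmersion s.left := hi.property _ g' s sq
  have hT' : IsAffine T'.left := isAffine_of_isAffineHom s.left
  have hsurj' : Function.Surjective (Points.map g') := fun w => by
    obtain ⟨t, ht⟩ := hsurj (Points.map i.hom w)
    obtain ⟨z, -, hz⟩ := exists_point_of_isPullback sq.flip t w ht
    exact ⟨z, hz⟩
  have : Mono i.hom := mono_of_repWith (fun _ _ k (_ : IsClosedImmersion k) => inferInstanceAs (Mono k)) hi
  refine ⟨T', g', hT', isFiniteMor_iff.2 (repWith_of_isPullback sq.flip (isFiniteMor_iff.1 hfin)),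
    hsurj', isQuasiCompactSp_of_surjective W.property g' hsurj' ?_, isQuasiSeparatedSp_of_mono hqs i.hom,
    isLocNoethSp_of_lft W.property X.property hN (locP_of_repWith etLocal_lft
      (repWith_le (fun _ _ k (_ : IsClosedImmersion k) => inferInstanceAs (LocallyOfFiniteType k)) hi))⟩
  exact isQuasiCompactSp_yon_iff.2 inferInstance

theorem isAffSp_of_van [QuasiSeparatedSpace S] (X : Space S) (hqc : IsQuasiCompactSp X.obj)
    (hqs : IsQuasiSeparatedSp X.obj) (hN : IsLocNoethSp X.obj)
    (h : ∀ M : ModEt X.obj, M.IsFinitePresentation → Van M 1) : IsAffSp X :=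
  exists_iso_affine X.property hqc hqs fun M hM =>
    haveI := hM
    subsingleton_h1_of_coh X hqc hqs hN h M

/-- A space receiving a finite surjection from an affine scheme, with affine proper closed subspaces, is affine. -/
theorem isAffSp_step [QuasiSeparatedSpace S] {X : Space S} (hqc : IsQuasiCompactSp X.obj)
    (hqs : IsQuasiSeparatedSp X.obj) (hN : IsLocNoethSp X.obj) {T : Over S} (hT : IsAffine T.left)
    {g : (yon S).obj T ⟶ X.obj} (hfin : IsFiniteMor g) (hsurj : Function.Surjective (Points.map g))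
    (IH : AffBelow X) : IsAffSp X := by
  obtain ⟨Z, i, hZ, hi, hr, hred⟩ := exists_isRedInduced X.property (isClosed_univ : IsClosed (Set.univ : Set (Points X.obj)))
  let Z' : Space S := ⟨Z, hZ⟩
  let i' : Z' ⟶ X := ObjectProperty.homMk i
  obtain ⟨T', g', hT', hfin', hsurj', hqc', hqs', hN'⟩ := exists_data_closed hqc hqs hN hT hfin hsurj i' hi
  have IH' : AffBelow Z' := fun W k hk hne => by
    refine IH W (k ≫ i') (repWith_comp hk hi) fun h => hne (Set.eq_univ_of_forall fun z => ?_)
    obtain ⟨w, hw⟩ := h.ge (Set.mem_univ (Points.map i z))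
    have : Mono i := mono_of_repWith (fun _ _ l (_ : IsClosedImmersion l) => inferInstanceAs (Mono l)) hi
    exact ⟨w, injective_map_of_mono i ((Points.map_comp k.hom i w).symm.trans hw)⟩
  obtain ⟨TZ, hTZ, ⟨e⟩⟩ := isAffSp_of_van Z' hqc' hqs' hN'
    fun M hM => haveI := hM; van_one_of_reduced hqc' hqs' hN' hred hT' g' hfin' hsurj' IH' M
  refine isAffSp_of_van X hqc hqs hN fun M hM => ?_
  haveI := hM
  exact van_of_off hqc hN i' hi hTZ e M (fun E hE hin s => by
    have : IsEmpty E.obj.left.left := ⟨fun x => hin x (hr.ge (Set.mem_univ _))⟩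
    let dn : OSec E ≃+* Γ(E.obj.left.left, ⊤) := ULift.ringEquiv
    have hs : Subsingleton Γ(E.obj.left.left, ⊤) := inferInstance
    have : Subsingleton (OSec E) := ⟨fun x y => dn.injective (@Subsingleton.elim _ hs _ _)⟩
    exact (one_smul (OSec E) s).symm.trans (by rw [Subsingleton.elim (1 : OSec E) 0, zero_smul])) 1 one_pos

/-- Chevalley: a Noetherian space receiving a finite surjection from an affine scheme is affine. -/
theorem isAffSp_of_finite_surjective [QuasiSeparatedSpace S] {X : Space S} (hqc : IsQuasiCompactSp X.obj)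
    (hqs : IsQuasiSeparatedSp X.obj) (hN : IsLocNoethSp X.obj) {T : Over S} (hT : IsAffine T.left)
    {g : (yon S).obj T ⟶ X.obj} (hfin : IsFiniteMor g) (hsurj : Function.Surjective (Points.map g)) :
    IsAffSp X := by
  have := AffImm.noetherianSpace_points hqc hN
  suffices key : ∀ (C : TopologicalSpace.Closeds (Points X.obj)) (W : Space S) (i : W ⟶ X),
      RepWith @IsClosedImmersion i.hom → Set.range (Points.map i.hom) ⊆ C → IsAffSp W from
    key ⊤ X (𝟙 X) (repWith_of_isIso _) (Set.subset_univ _)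
  intro C
  induction C using WellFoundedLT.induction with
  | _ C ih =>
  intro W i hi hC
  obtain ⟨T', g', hT', hfin', hsurj', hqc', hqs', hN'⟩ := exists_data_closed hqc hqs hN hT hfin hsurj i hi
  refine isAffSp_step hqc' hqs' hN' hT' hfin' hsurj' fun V k hk hne => ?_
  have hki : RepWith @IsClosedImmersion (k ≫ i).hom := repWith_comp hk hi
  have hcl : IsClosed (Set.range (Points.map (k ≫ i).hom)) :=
    (isClosedMap_map_of_repWith (fun _ _ l (_ : IsClosedImmersion l) => inferInstance) hki).isClosed_range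
  refine ih ⟨_, hcl⟩ (lt_of_le_of_ne ?_ fun h => hne ?_) V (k ≫ i) hki le_rfl
  · rintro _ ⟨v, rfl⟩
    exact hC ⟨Points.map k.hom v, (Points.map_comp k.hom i.hom v).symm⟩
  · have : Mono i.hom := mono_of_repWith (fun _ _ l (_ : IsClosedImmersion l) => inferInstanceAs (Mono l)) hi
    refine Set.eq_univ_of_forall fun w => ?_
    obtain ⟨v, hv⟩ := (congrArg (fun D : TopologicalSpace.Closeds _ => (D : Set (Points X.obj))) h).ge (hC ⟨w, rfl⟩)
    exact ⟨v, injective_map_of_mono i.hom ((Points.map_comp k.hom i.hom v).symm.trans hv)⟩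

end Groth.Agent.H13Serre
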