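import Groth.Agent.H13Serre.Relations
import Groth.Agent.H12AlgSp.BCMod.PushQcqs
import Groth.Agent.H12AlgSp.QSApps
import Groth.Prelude.Def_EtGm
import Mathlib.AlgebraicGeometry.Sites.Fpqc

/-!
Sections of direct images from affine schemes, computed through a ring of global functions.
-/

set_option autoImplicit false
set_option backward.isDefEq.respectTransparency false
set_option linter.style.haveILetI false

universe u

open CategoryTheory CategoryTheory.Limits AlgebraicGeometry Opposite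
open AlgSp Groth.Agent.H13AlgSp Groth.Agent.H12AlgSp Groth.Agent.H12AlgSp.BCMod Groth.Agent.H12AlgSp.SubExt
  Groth.Agent.H13EtMod
open scoped TensorProduct

namespace Groth.Agent.H13Serre

/-- Functions are determined after a faithfully flat quasi-compact base change. -/
theorem appTop_injective {W T : Scheme.{u}} (a : W ⟶ T) [Flat a] [Surjective a] [QuasiCompact a] :
    Function.Injective a.appTop := by
  intro c d e
  have : Epi a := Flat.epi_of_flat_of_surjective a
  refine EtCoh.ΓRepr.homEquiv.symm.injective ((cancel_epi a).1 (EtCoh.ΓRepr.homEquiv.injective ?_))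
  rw [EtCoh.ΓRepr.homEquiv_comp, EtCoh.ΓRepr.homEquiv_comp, Equiv.apply_symm_apply, Equiv.apply_symm_apply]
  exact e

/-- Functions descend along faithfully flat quasi-compact morphisms. -/
theorem exists_appTop_eq_of_descent {W T : Scheme.{u}} (a : W ⟶ T) [Flat a] [Surjective a] [QuasiCompact a]
    (w : Γ(W, ⊤))
    (h : ∀ (Z : Scheme.{u}) (g₁ g₂ : Z ⟶ W), g₁ ≫ a = g₂ ≫ a → g₁.appTop w = g₂.appTop w) :
    ∃ c : Γ(T, ⊤), a.appTop c = w := by
  let φ := EtCoh.ΓRepr.homEquiv.symm (show (Scheme.Γ.{u} ⋙ forget CommRingCat).obj (op W) from w)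
  have hφ : ∀ {Z : Scheme.{u}} (g₁ g₂ : Z ⟶ W), g₁ ≫ a = g₂ ≫ a → g₁ ≫ φ = g₂ ≫ φ := fun g₁ g₂ e => by
    refine EtCoh.ΓRepr.homEquiv.injective ?_
    rw [EtCoh.ΓRepr.homEquiv_comp, EtCoh.ΓRepr.homEquiv_comp, Equiv.apply_symm_apply]
    exact h _ g₁ g₂ e
  refine ⟨EtCoh.ΓRepr.homEquiv (EffectiveEpi.desc a φ hφ), ?_⟩
  refine (EtCoh.ΓRepr.homEquiv_comp a (EffectiveEpi.desc a φ hφ)).symm.trans ?_
  rw [EffectiveEpi.fac, Equiv.apply_symm_apply]

variable {S : Scheme.{u}} {X : Sp S}

/-- A scheme with a jointly monomorphic pair of maps to affine schemes is separated. -/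
theorem isSeparated_of_pair {W T U : Scheme.{u}} [IsAffine T] [IsAffine U] (a : W ⟶ T) (b : W ⟶ U)
    (h : ∀ (Z : Scheme.{u}) (x y : Z ⟶ W), x ≫ a = y ≫ a → x ≫ b = y ≫ b → x = y) : W.IsSeparated := by
  let P := pullback (terminal.from T) (terminal.from U)
  let j : W ⟶ P := pullback.lift a b (terminal.hom_ext _ _)
  have : Mono j := ⟨fun {Z} x y e => h Z x y
    (by simpa [j] using congrArg (· ≫ pullback.fst _ _) e) (by simpa [j] using congrArg (· ≫ pullback.snd _ _) e)⟩
  constructor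
  rw [← terminal.comp_from j]
  infer_instance

theorem mono_pair {W T U : Over S} {a : W ⟶ T} {b : W ⟶ U} {g : (yon S).obj T ⟶ X} {p : (yon S).obj U ⟶ X}
    (sq : IsPullback ((yon S).map a) ((yon S).map b) g p) (Z : Scheme.{u}) (x y : Z ⟶ W.left)
    (ha : x ≫ a.left = y ≫ a.left) (hb : x ≫ b.left = y ≫ b.left) : x = y := by
  let ZO : Over S := Over.mk (x ≫ W.hom)
  let x' : ZO ⟶ W := Over.homMk x rfl
  let y' : ZO ⟶ W := Over.homMk y (by
    change y ≫ W.hom = x ≫ W.hom
    rw [← Over.w a, ← Category.assoc, ← ha, Category.assoc])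
  have : (yon S).map x' = (yon S).map y' := sq.hom_ext
    (by rw [← Functor.map_comp, ← Functor.map_comp]; exact congrArg (yon S).map (Over.OverMorphism.ext ha))
    (by rw [← Functor.map_comp, ← Functor.map_comp]; exact congrArg (yon S).map (Over.OverMorphism.ext hb))
  exact congrArg (fun m : ZO ⟶ W => m.left) ((yon S).map_injective this)

section Chart

variable (E₀ : EtOver X)

/-- Global functions as a subring of the functions on a chart. -/
noncomputable abbrev gRing : Subring Γ(E₀.obj.left.left, ⊤) := (GlobalFun.valHom E₀).range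

/-- The map of a chart to the spectrum of the global functions. -/
noncomputable def qMap : E₀.obj.left.left ⟶ Spec (CommRingCat.of (gRing E₀)) :=
  E₀.obj.left.left.toSpecΓ ≫ Spec.map (CommRingCat.ofHom (gRing E₀).subtype)

/-- A global function as a function on the spectrum. -/
noncomputable def specFn (x : ↥(gsectEt (OEt X))) : Γ(Spec (CommRingCat.of (gRing E₀)), ⊤) :=
  (Scheme.ΓSpecIso _).inv (⟨GlobalFun.val x E₀, x, rfl⟩ : gRing E₀)

theorem qMap_appTop (r : Γ(Spec (CommRingCat.of (gRing E₀)), ⊤)) :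
    (qMap E₀).appTop r = ((Scheme.ΓSpecIso (CommRingCat.of (gRing E₀))).hom r : gRing E₀).1 := by
  rw [qMap, Scheme.Hom.comp_appTop, Scheme.toSpecΓ_appTop]
  exact ConcreteCategory.congr_hom (Scheme.ΓSpecIso_naturality (CommRingCat.ofHom (gRing E₀).subtype)) r

theorem qMap_specFn (x : ↥(gsectEt (OEt X))) : (qMap E₀).appTop (specFn E₀ x) = GlobalFun.val x E₀ := by
  rw [qMap_appTop, specFn, Iso.inv_hom_id_apply]

/-- Two maps to the chart with the same image in the space agree on global functions. -/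
theorem comp_qMap_eq (hX : IsAlgSpace X) {T : Over S} (x y : T ⟶ E₀.obj.left)
    (h : (yon S).map x ≫ E₀.obj.hom = (yon S).map y ≫ E₀.obj.hom) : x.left ≫ qMap E₀ = y.left ≫ qMap E₀ := by
  obtain ⟨R, t, s', sq⟩ := E₀.property.1 E₀.obj.hom
  obtain ⟨s, rfl⟩ := (yon S).map_surjective s'
  let ER : EtOver X := EtOver.mk ((yon S).map t ≫ E₀.obj.hom)
    (repWith_comp ((repWith_yon_map_iff _ _).2 (E₀.property.property _ _ t sq)) E₀.property)
  let gs : ER ⟶ E₀ := EtOver.homMk s sq.w
  let gt : ER ⟶ E₀ := EtOver.homMk t rfl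
  obtain ⟨r, hr⟩ := (yon S).map_surjective (sq.lift ((yon S).map x) ((yon S).map y) h)
  have hrs : r ≫ s = x := (yon S).map_injective (by rw [Functor.map_comp, hr, sq.lift_fst])
  have hrt : r ≫ t = y := (yon S).map_injective (by rw [Functor.map_comp, hr, sq.lift_snd])
  refine ext_of_isAffine ?_
  ext c
  obtain ⟨z, hz⟩ := ((Scheme.ΓSpecIso (CommRingCat.of (gRing E₀))).hom c : gRing E₀).2
  rw [← hrs, ← hrt]
  simp only [Over.comp_left, Scheme.Hom.comp_appTop, CommRingCat.comp_apply, qMap_appTop, ← hz]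
  exact congrArg r.left.appTop ((GlobalFun.val_natural z gs).trans (GlobalFun.val_natural z gt).symm)

variable {E₀}

section Direct

variable {T : Over S} {g : (yon S).obj T ⟶ X} (hg : Representable g)

/-- Functions of `T` as a module on the space. -/
noncomputable abbrev pushUnit : ModEt X := (pushModEt hg).obj (unitModEt ((yon S).obj T))

/-- The fibre product with an object. -/
noncomputable abbrev bcO (E : EtOver X) : EtOver ((yon S).obj T) := (EtOver.bc hg).obj E

theorem isQCoh_pushUnit [QuasiSeparatedSpace S] (hqs : IsQuasiSeparatedSp X) [IsAffine T.left] :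
    (pushUnit hg).IsQuasicoherent := by
  have hU : (unitModEt ((yon S).obj T)).IsQuasicoherent :=
    (isQuasicoherent_iff_isBCEt _).2 fun _ _ g _ _ => isBC_unit g
  refine (isQuasicoherent_iff_isBCEt _).2 fun {E' E} k hE' hE => ?_
  have hE'₁ : IsAffine E'.obj.left.left := hE'
  have hE₁ : IsAffine E.obj.left.left := hE
  obtain ⟨a', ha'⟩ := (yon S).map_surjective ((EtOver.bc hg).obj E).obj.hom
  have sq' : IsPullback ((yon S).map a') ((yon S).map (hg.snd E.obj.hom)) g E.obj.hom := by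
    rw [ha']; exact hg.isPullback E.obj.hom
  have : ((EtOver.bc hg).obj E).obj.left.left.IsSeparated :=
    isSeparated_of_pair a'.left (hg.snd E.obj.hom).left (mono_pair sq')
  exact isBC_push hg (unitModEt ((yon S).obj T)) k (compactSpace_of_isPullback' hqs sq') inferInstance

/-- The projection of a fibre product to `T`. -/
noncomputable abbrev toT (E : EtOver X) : (bcO hg E).obj.left ⟶ T := (yon S).preimage (bcO hg E).obj.hom

/-- The projection of a fibre product to the object. -/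
noncomputable abbrev toU (E : EtOver X) : (bcO hg E).obj.left ⟶ E.obj.left := hg.snd E.obj.hom

theorem map_toT (E : EtOver X) : (yon S).map (toT hg E) = (bcO hg E).obj.hom := (yon S).map_preimage _

theorem isPullback_toT (E : EtOver X) :
    IsPullback ((yon S).map (toT hg E)) ((yon S).map (hg.snd E.obj.hom)) g E.obj.hom := by
  rw [map_toT]; exact hg.isPullback E.obj.hom

theorem exists_pushSec (c : Γ(T.left, ⊤)) :
    ∃ t : (pushUnit hg).sections, ∀ E : EtOver X,
      (show OSec (bcO hg E) from sv t E) = ULift.up ((toT hg E).left.appTop c) := by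
  refine ⟨PresheafOfModules.sectionsMk (M := (pushUnit hg).val)
    (fun E => (ULift.up ((toT hg E.unop).left.appTop c) : OSec (bcO hg E.unop))) (fun E E' k => ?_), fun E => rfl⟩
  refine ULift.ext _ _ ?_
  change ((EtOver.bc hg).map k.unop).hom.left.left.appTop ((toT hg E.unop).left.appTop c) =
    (toT hg E'.unop).left.appTop c
  rw [← CommRingCat.comp_apply, ← Scheme.Hom.comp_appTop, ← Over.comp_left]
  refine congrArg (fun m : (bcO hg E'.unop).obj.left ⟶ T => m.left.appTop c) ((yon S).map_injective ?_)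
  rw [Functor.map_comp, map_toT, map_toT]
  exact EtOver.w _

theorem props_toT [QuasiSeparatedSpace S] (hqs : IsQuasiSeparatedSp X) [IsAffine T.left] {E₀ : EtOver X}
    (h₀ : IsAtlas E₀) : Flat (toT hg E₀).left ∧ Surjective (toT hg E₀).left ∧
      QuasiCompact (toT hg E₀).left := by
  have : IsAffine E₀.obj.left.left := h₀.1
  have sq := isPullback_toT hg E₀
  have haE : Etale (toT hg E₀).left := E₀.property.property _ _ (toT hg E₀) sq.flip
  refine ⟨inferInstance, (repWith_surjective_of_map E₀.property.1 fun z => ?_).property _ _ (toT hg E₀) sq.flip,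
    (quasiCompact_iff_compactSpace (toT hg E₀).left).2 (compactSpace_of_isPullback' hqs sq)⟩
  obtain ⟨u, hu⟩ := h₀.2 z
  exact ⟨_, (Points.ofPt_eq_map_ofScheme _ u).symm.trans hu⟩

theorem exists_descent [QuasiSeparatedSpace S] (hX : IsAlgSpace X) (hqs : IsQuasiSeparatedSp X) [IsAffine T.left]
    {E₀ : EtOver X} (h₀ : IsAtlas E₀) (t : (pushUnit hg).sections) :
    ∃ c : Γ(T.left, ⊤), (toT hg E₀).left.appTop c = (show OSec (bcO hg E₀) from sv t E₀).down := by
  obtain ⟨i₁, i₂, i₃⟩ := props_toT hg hqs h₀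
  let B₀ := bcO hg E₀
  let a := toT hg E₀
  have ha := map_toT hg E₀
  have sq := isPullback_toT hg E₀
  let b : B₀.obj.left ⟶ E₀.obj.left := hg.snd E₀.obj.hom
  refine exists_appTop_eq_of_descent a.left _ fun Z g₁ g₂ e => ?_
  let ZO : Over S := Over.mk (g₁ ≫ B₀.obj.left.hom)
  let x₁ : ZO ⟶ B₀.obj.left := Over.homMk g₁ rfl
  let x₂ : ZO ⟶ B₀.obj.left := Over.homMk g₂ (by
    change g₂ ≫ B₀.obj.left.hom = g₁ ≫ B₀.obj.left.hom
    rw [← Over.w a, ← Category.assoc, ← e, Category.assoc])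
  have hx : x₁ ≫ a = x₂ ≫ a := Over.OverMorphism.ext e
  obtain ⟨R, pt, s', sqR⟩ := E₀.property.1 E₀.obj.hom
  obtain ⟨ps, rfl⟩ := (yon S).map_surjective s'
  let ER : EtOver X := EtOver.mk ((yon S).map pt ≫ E₀.obj.hom)
    (repWith_comp ((repWith_yon_map_iff _ _).2 (E₀.property.property _ _ pt sqR)) E₀.property)
  let gs : ER ⟶ E₀ := EtOver.homMk ps sqR.w
  let gt : ER ⟶ E₀ := EtOver.homMk pt rfl
  have h12 : (yon S).map (x₁ ≫ b) ≫ E₀.obj.hom = (yon S).map (x₂ ≫ b) ≫ E₀.obj.hom := by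
    rw [Functor.map_comp, Functor.map_comp, Category.assoc, Category.assoc, ← sq.w, ← Category.assoc,
      ← Category.assoc, ← Functor.map_comp, ← Functor.map_comp, hx]
  obtain ⟨m, hm⟩ := (yon S).map_surjective (sqR.lift _ _ h12)
  have hms : m ≫ ps = x₁ ≫ b := (yon S).map_injective (by rw [Functor.map_comp, hm, sqR.lift_fst])
  have hmt : m ≫ pt = x₂ ≫ b := (yon S).map_injective (by rw [Functor.map_comp, hm, sqR.lift_snd])
  have hn0 : (yon S).map (x₁ ≫ a) ≫ g = (yon S).map m ≫ ER.obj.hom := by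
    change _ = (yon S).map m ≫ (yon S).map pt ≫ E₀.obj.hom
    rw [hx, ← Category.assoc _ _ E₀.obj.hom, ← Functor.map_comp, hmt, Functor.map_comp, Functor.map_comp,
      Category.assoc, Category.assoc, sq.w]
  let n : ZO ⟶ ((EtOver.bc hg).obj ER).obj.left := hg.lift ((yon S).map (x₁ ≫ a)) m hn0
  have key : ∀ (q : ER ⟶ E₀) (x : ZO ⟶ B₀.obj.left), x ≫ a = x₁ ≫ a → m ≫ q.hom.left = x ≫ b →
      n ≫ ((EtOver.bc hg).map q).hom.left = x := by
    intro q x h₁ h₂
    refine (yon S).map_injective (sq.hom_ext ?_ ?_)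
    · rw [← Functor.map_comp (yon S) x a, h₁, Functor.map_comp, Category.assoc, ha]
      exact (congrArg ((yon S).map n ≫ ·) (EtOver.map_bcMap_fst hg q)).trans (hg.lift_fst _ _ _)
    · rw [← Functor.map_comp, ← Functor.map_comp, Category.assoc]
      refine congrArg (yon S).map ((congrArg (n ≫ ·) (EtOver.bcMap_snd hg q)).trans ?_)
      rw [← Category.assoc, hg.lift_snd, h₂]
  have e₁ := key gs x₁ rfl hms
  have e₂ := key gt x₂ hx.symm hmt
  have hw₁ := congrArg ULift.down (sections_map t gs)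
  have hw₂ := congrArg ULift.down (sections_map t gt)
  change ((EtOver.bc hg).map gs).hom.left.left.appTop _ = _ at hw₁
  change ((EtOver.bc hg).map gt).hom.left.left.appTop _ = _ at hw₂
  change x₁.left.appTop _ = x₂.left.appTop _
  rw [← e₁, ← e₂]
  simp only [Over.comp_left, Scheme.Hom.comp_appTop, CommRingCat.comp_apply]
  exact congrArg n.left.appTop (hw₁.trans hw₂.symm)

end Direct

section Tensor

variable {A B C D : Type u} [CommRing A] [CommRing B] [CommRing C] [CommRing D] [Algebra A B] [Algebra A C]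

/-- Bijectivity of a map out of a tensor product from a criterion on relations. -/
theorem bijective_of_relations (Ψ : C ⊗[A] B →+* D) (α : C → D) (β : B → D)
    (hΨ : ∀ c d, Ψ (c ⊗ₜ[A] d) = β d * α c)
    (hgen : ∀ w, w ∈ AddSubgroup.closure (Set.range fun cd : C × B => β cd.2 * α cd.1))
    (hrel : ∀ (n : ℕ) (c : Fin n → C) (b : Fin n → B), ∑ j, β (b j) * α (c j) = 0 →
      ∃ (m : ℕ) (x : Fin n → Fin m → A) (b' : Fin m → B),
        (∀ j, b j = ∑ i, x j i • b' i) ∧ ∀ i, ∑ j, x j i • c j = 0) :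
    Function.Bijective Ψ := by
  classical
  refine ⟨?_, fun w => ?_⟩
  · rw [injective_iff_map_eq_zero]
    intro z hz
    obtain ⟨Sf, rfl⟩ := TensorProduct.exists_finset z
    let en := Sf.equivFin
    let cj : Fin Sf.card → C := fun j => (en.symm j).1.1
    let bj : Fin Sf.card → B := fun j => (en.symm j).1.2
    have hsum : (∑ i ∈ Sf, i.1 ⊗ₜ[A] i.2) = ∑ j, cj j ⊗ₜ[A] bj j :=
      (Finset.sum_coe_sort Sf (fun i => i.1 ⊗ₜ[A] i.2)).symm.trans
        (Equiv.sum_comp en.symm (fun i => i.1.1 ⊗ₜ[A] i.1.2)).symm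
    rw [hsum] at hz ⊢
    rw [map_sum] at hz
    simp only [hΨ] at hz
    obtain ⟨m, x, b', h1, h2⟩ := hrel _ cj bj hz
    calc (∑ j, cj j ⊗ₜ[A] bj j)
        = ∑ j, ∑ i, (x j i • cj j) ⊗ₜ[A] b' i := Finset.sum_congr rfl fun j _ => by
          rw [h1, TensorProduct.tmul_sum]
          exact Finset.sum_congr rfl fun i _ => (TensorProduct.smul_tmul _ _ _).symm
      _ = ∑ i, (∑ j, x j i • cj j) ⊗ₜ[A] b' i := by
          rw [Finset.sum_comm]
          exact Finset.sum_congr rfl fun i _ => (TensorProduct.sum_tmul _ _ _).symm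
      _ = 0 := Finset.sum_eq_zero fun i _ => by rw [h2 i, TensorProduct.zero_tmul]
  · induction hgen w using AddSubgroup.closure_induction with
    | mem w hw =>
      obtain ⟨⟨c, d⟩, rfl⟩ := hw
      exact ⟨c ⊗ₜ[A] d, hΨ c d⟩
    | zero => exact ⟨0, map_zero _⟩
    | add p q _ _ hp hq =>
      obtain ⟨z, rfl⟩ := hp
      obtain ⟨z', rfl⟩ := hq
      exact ⟨z + z', map_add _ _ _⟩
    | neg p _ hp =>
      obtain ⟨z, rfl⟩ := hp
      exact ⟨-z, map_neg _ _⟩

end Tensor

variable [QuasiSeparatedSpace S] (hX : IsAlgSpace X) (hqc : IsQuasiCompactSp X) (hqs : IsQuasiSeparatedSp X)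

include hX hqc hqs in
theorem theta_gen (h1 : VanH1 X) (h₀ : IsAtlas E₀) {T : Over S} [IsAffine T.left] {g : (yon S).obj T ⟶ X}
    (hg : Representable g) (w : Γ((bcO hg E₀).obj.left.left, ⊤)) :
    w ∈ AddSubgroup.closure (Set.range fun cd : Γ(T.left, ⊤) × Γ(E₀.obj.left.left, ⊤) =>
      (toU hg E₀).left.appTop cd.2 * (toT hg E₀).left.appTop cd.1) := by
  suffices key : ∀ v : (pm (pushUnit hg)).obj (op E₀),
      v ∈ Submodule.span (OSec E₀) (Set.range fun t : (pushUnit hg).sections => sv t E₀) →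
      ∀ d : OSec E₀, (show OSec (bcO hg E₀) from d • v).down ∈
        AddSubgroup.closure (Set.range fun cd : Γ(T.left, ⊤) × Γ(E₀.obj.left.left, ⊤) =>
          (toU hg E₀).left.appTop cd.2 * (toT hg E₀).left.appTop cd.1) by
    have h := key (show OSec (bcO hg E₀) from ULift.up w)
      (mem_globalSpan hX hqc hqs h1 h₀ (isQCoh_pushUnit hg hqs) _) 1
    rw [one_smul] at h
    exact h
  intro v hv
  induction hv using Submodule.span_induction with
  | mem v hv =>
    intro d
    obtain ⟨t, rfl⟩ := hv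
    obtain ⟨c, hc⟩ := exists_descent hg hX hqs h₀ t
    refine AddSubgroup.subset_closure ⟨(c, d.down), ?_⟩
    exact congrArg ((toU hg E₀).left.appTop d.down * ·) hc
  | zero => intro d; rw [smul_zero]; exact AddSubgroup.zero_mem _
  | add p q _ _ hp hq => intro d; rw [smul_add]; exact AddSubgroup.add_mem _ (hp d) (hq d)
  | smul r p _ hp => intro d; rw [smul_smul]; exact hp _

include hX hqc hqs in
theorem theta_rel (h1 : VanH1 X) (h₀ : IsAtlas E₀) {T : Over S} [IsAffine T.left] {g : (yon S).obj T ⟶ X}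
    (hg : Representable g) {l : T ⟶ E₀.obj.left}
    (hcond : (toT hg E₀).left ≫ l.left ≫ qMap E₀ = (toU hg E₀).left ≫ qMap E₀)
    (n : ℕ) (c : Fin n → Γ(T.left, ⊤)) (b : Fin n → Γ(E₀.obj.left.left, ⊤))
    (hb : ∑ j, (toU hg E₀).left.appTop (b j) * (toT hg E₀).left.appTop (c j) = 0) :
    ∃ (m : ℕ) (x : Fin n → Fin m → Γ(Spec (CommRingCat.of (gRing E₀)), ⊤)) (b' : Fin m → Γ(E₀.obj.left.left, ⊤)),
      (∀ j, b j = ∑ i, (qMap E₀).appTop (x j i) * b' i) ∧
        ∀ i, ∑ j, (l.left ≫ qMap E₀).appTop (x j i) * c j = 0 := by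
  choose sj hsj using fun j => exists_pushSec hg (c j)
  let dnB : OSec (bcO hg E₀) ≃+* Γ((bcO hg E₀).obj.left.left, ⊤) := ULift.ringEquiv
  let dn : OSec E₀ ≃+* Γ(E₀.obj.left.left, ⊤) := ULift.ringEquiv
  have hval : ∀ (d : OSec E₀) (j : Fin n), dnB (show OSec (bcO hg E₀) from d • sv (sj j) E₀) =
      (toU hg E₀).left.appTop (dn d) * (toT hg E₀).left.appTop (c j) := fun d j =>
    congrArg ((toU hg E₀).left.appTop (dn d) * ·) (congrArg dnB (hsj j E₀))
  have hsum : ∀ d : Fin n → OSec E₀, dnB (show OSec (bcO hg E₀) from ∑ j, d j • sv (sj j) E₀) =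
      ∑ j, (toU hg E₀).left.appTop (dn (d j)) * (toT hg E₀).left.appTop (c j) := fun d =>
    (map_sum dnB (fun j => (show OSec (bcO hg E₀) from d j • sv (sj j) E₀)) Finset.univ).trans
      (Finset.sum_congr rfl fun j _ => hval (d j) j)
  have h0 : ∑ j, dn.symm (b j) • sv (sj j) E₀ = 0 := by
    refine dnB.injective ((hsum _).trans (Eq.trans ?_ (map_zero dnB).symm))
    simpa only [RingEquiv.apply_symm_apply] using hb
  obtain ⟨m, x, b', hb1, hb2⟩ := exists_relation hX hqc hqs h1 h₀ (isQCoh_pushUnit hg hqs) sj _ h0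
  refine ⟨m, fun j i => specFn E₀ (x j i), fun i => dn (b' i), fun j => ?_, fun i => ?_⟩
  · have h2 := congrArg dn (hb1 j)
    rw [RingEquiv.apply_symm_apply, map_sum] at h2
    refine h2.trans (Finset.sum_congr rfl fun i _ => ?_)
    rw [qMap_specFn, map_mul]
    rfl
  · obtain ⟨i₁, i₂, i₃⟩ := props_toT hg hqs h₀
    refine appTop_injective (toT hg E₀).left ?_
    rw [map_sum, map_zero]
    refine Eq.trans (Finset.sum_congr rfl fun j _ => ?_) ((hsum fun j => gf (x j i) E₀).symm.trans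
      ((congrArg dnB (hb2 i)).trans (map_zero dnB)))
    rw [map_mul, ← CommRingCat.comp_apply (l.left ≫ qMap E₀).appTop, ← Scheme.Hom.comp_appTop, hcond,
      Scheme.Hom.comp_appTop, CommRingCat.comp_apply, qMap_specFn]
    rfl

include hX hqc hqs in
/-- The functions on a fibre product with the chart are a tensor product over the global functions. -/
theorem exists_theta (h1 : VanH1 X) (h₀ : IsAtlas E₀) {T : Over S} [IsAffine T.left]
    (l : T ⟶ E₀.obj.left) (g : (yon S).obj T ⟶ X) (hl : (yon S).map l ≫ E₀.obj.hom = g) :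
    ∃ (W : Over S) (a : W ⟶ T) (b : W ⟶ E₀.obj.left)
      (_ : IsPullback ((yon S).map a) ((yon S).map b) g E₀.obj.hom)
      (θ : W.left ⟶ pullback (l.left ≫ qMap E₀) (qMap E₀)),
      θ ≫ pullback.fst _ _ = a.left ∧ θ ≫ pullback.snd _ _ = b.left ∧ IsIso θ.appTop := by
  have hE₀ : IsAffine E₀.obj.left.left := h₀.1
  have hg : Representable g := hX.representable_from_yon g
  let a := toT hg E₀
  let b := toU hg E₀
  have sq := isPullback_toT hg E₀
  have hcond : a.left ≫ l.left ≫ qMap E₀ = b.left ≫ qMap E₀ := by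
    rw [← Category.assoc]
    exact comp_qMap_eq E₀ hX (a ≫ l) b (by rw [Functor.map_comp, Category.assoc, hl]; exact sq.w)
  let θ : (bcO hg E₀).obj.left.left ⟶ pullback (l.left ≫ qMap E₀) (qMap E₀) :=
    pullback.lift a.left b.left hcond
  refine ⟨(bcO hg E₀).obj.left, a, b, sq, θ, pullback.lift_fst _ _ _, pullback.lift_snd _ _ _, ?_⟩
  have hpo := isPushout_appTop_of_isPullback (IsPullback.of_hasPullback (l.left ≫ qMap E₀) (qMap E₀))
  let A₀ := Γ(Spec (CommRingCat.of (gRing E₀)), ⊤)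
  algebraize [(l.left ≫ qMap E₀).appTop.hom, (qMap E₀).appTop.hom]
  let e := (CommRingCat.isPushout_tensorProduct A₀ Γ(T.left, ⊤) Γ(E₀.obj.left.left, ⊤)).isoIsPushout _ _ hpo
  let Ψ : CommRingCat.of (Γ(T.left, ⊤) ⊗[A₀] Γ(E₀.obj.left.left, ⊤)) ⟶ Γ((bcO hg E₀).obj.left.left, ⊤) :=
    e.hom ≫ θ.appTop
  have hinl : CommRingCat.ofHom Algebra.TensorProduct.includeLeftRingHom ≫ Ψ = a.left.appTop := by
    rw [show Ψ = e.hom ≫ θ.appTop from rfl, IsPushout.inl_isoIsPushout_hom_assoc, ← Scheme.Hom.comp_appTop,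
      pullback.lift_fst]
  have hinr : CommRingCat.ofHom (Algebra.TensorProduct.includeRight
      (R := A₀) (A := Γ(T.left, ⊤)) (B := Γ(E₀.obj.left.left, ⊤))).toRingHom ≫ Ψ = b.left.appTop := by
    rw [show Ψ = e.hom ≫ θ.appTop from rfl, IsPushout.inr_isoIsPushout_hom_assoc, ← Scheme.Hom.comp_appTop,
      pullback.lift_snd]
  have hΨ : ∀ c d, Ψ.hom (c ⊗ₜ[A₀] d) = b.left.appTop d * a.left.appTop c := by
    intro c d
    rw [← hinl, ← hinr, show c ⊗ₜ[A₀] d = ((1 : Γ(T.left, ⊤)) ⊗ₜ[A₀] d) * (c ⊗ₜ[A₀] (1 : Γ(E₀.obj.left.left, ⊤))) by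
      rw [Algebra.TensorProduct.tmul_mul_tmul, one_mul, mul_one], map_mul]
    rfl
  have hb := bijective_of_relations Ψ.hom a.left.appTop b.left.appTop hΨ (theta_gen hX hqc hqs h1 h₀ hg)
    fun n c d h => theta_rel hX hqc hqs h1 h₀ hg hcond n c d h
  have : IsIso Ψ := (ConcreteCategory.isIso_iff_bijective Ψ).2 hb
  exact IsIso.of_isIso_comp_left e.hom θ.appTop

end Chart

end Groth.Agent.H13Serre
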