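import Groth.Agent.H13Serre.Graph
import Groth.Agent.H13Serre.Push
import Groth.Agent.H12AlgSp.NoethValuative
import Groth.Agent.H13EtMod.Push
import Groth.Agent.H13AlgSp.AffineLocal

/-!
Multiplication by functions on direct images along finite morphisms from affine schemes.
-/

set_option autoImplicit false
set_option backward.isDefEq.respectTransparency false
set_option linter.style.haveILetI false

universe u

open CategoryTheory CategoryTheory.Limits AlgebraicGeometry Opposite
open AlgSp Groth.Agent.H13AlgSp Groth.Agent.H12AlgSp Groth.Agent.H12AlgSp.BCMod Groth.Agent.H12AlgSp.SubExt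
  Groth.Agent.H13EtMod

namespace Groth.Agent.H13Serre

variable {S : Scheme.{u}}

/-- Multiplication by a global function. -/
noncomputable def smulEnd {Y : Sp S} (a : ↥(gsectEt (OEt Y))) (M : ModEt Y) : M ⟶ M :=
  ⟨PresheafOfModules.homMk
    { app := fun E => AddCommGrpCat.ofHom
        { toFun := fun x => (gf a E.unop • (show (pm M).obj (op E.unop) from x) : (pm M).obj (op E.unop))
          map_zero' := smul_zero _
          map_add' := fun x y => smul_add _ _ _ }
      naturality := fun E E' g => by
        ext x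
        exact ((map_smul_sec g.unop (gf a E.unop) (show (pm M).obj (op E.unop) from x)).trans
          (congrArg (· • ((pm M).map g).hom (show (pm M).obj (op E.unop) from x)) (gf_natural a g.unop))).symm }
    (fun E r x => smul_comm (gf a E.unop) (show OSec E.unop from r) (show (pm M).obj (op E.unop) from x))⟩

theorem appE_smulEnd {Y : Sp S} (a : ↥(gsectEt (OEt Y))) (M : ModEt Y) (E : EtOver Y)
    (x : (pm M).obj (op E)) : appE (smulEnd a M) E x = gf a E • x := rfl

/-- A function on an affine scheme as a global function on its small etale site. -/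
theorem exists_gf_of_fn {T : Over S} (c : Γ(T.left, ⊤)) :
    ∃ a : ↥(gsectEt (OEt ((yon S).obj T))), ∀ (V : EtOver ((yon S).obj T)),
      GlobalFun.val a V = ((yon S).preimage V.obj.hom).left.appTop c := by
  refine GlobalFun.exists_gsectEt _ fun {V V'} k => ?_
  rw [← CommRingCat.comp_apply, ← Scheme.Hom.comp_appTop, ← Over.comp_left]
  refine congrArg (fun m : V.obj.left ⟶ T => m.left.appTop c) ((yon S).map_injective ?_)
  rw [Functor.map_comp, (yon S).map_preimage, (yon S).map_preimage]
  exact EtOver.w k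

/-- Direct image along a representable morphism preserves finite limits. -/
theorem preservesFiniteLimits_push {X Y : Sp S} {f : X ⟶ Y} (hf : Representable f) :
    PreservesFiniteLimits (pushModEt hf) := by
  constructor
  intro J _ _
  let G := SheafOfModules.forget.{u + 1} (OEtRing Y) ⋙ PresheafOfModules.toPresheaf _
  have h : PreservesLimitsOfShape J (pushModEt hf ⋙ G) :=
    inferInstanceAs (PreservesLimitsOfShape J (SheafOfModules.forget.{u + 1} (OEtRing X) ⋙
      PresheafOfModules.toPresheaf _ ⋙ (Functor.whiskeringLeft _ _ _).obj (EtOver.bc hf).op))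
  exact preservesLimitsOfShape_of_reflects_of_preserves _ G

/-- A morphism of quasi-coherent modules vanishing on a surjective chart vanishes. -/
theorem hom_eq_zero_of_atlas {X : Sp S} (hX : IsAlgSpace X) {E₀ : EtOver X} (h₀ : IsAtlas E₀) {M N : ModEt X}
    (hM : IsBCEt M) (φ : M ⟶ N) (h : ∀ y, appE φ E₀ y = 0) : φ = 0 := by
  refine hom_ext_affine fun E _ x => ?_
  refine ext_of_atlas hX h₀.2 N _ _ fun W k hW ⟨m⟩ => ?_
  refine ((PresheafOfModules.naturality_apply φ.val k.op x).symm.trans ?_).trans (map_zero ((pm N).map k.op).hom).symm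
  have hmem := mem_resSpan_top hM m hW h₀.1 Set.univ (fun _ => trivial) (((pm M).map k.op).hom x)
  change appE φ W (((pm M).map k.op).hom x) = 0
  rw [resSpan] at hmem
  generalize ((pm M).map k.op).hom x = z at hmem ⊢
  induction hmem using Submodule.span_induction with
  | mem v hv =>
    obtain ⟨y, -, rfl⟩ := hv
    refine (PresheafOfModules.naturality_apply φ.val m.op y).trans ?_
    exact (congrArg _ (h y)).trans (map_zero _)
  | zero => exact map_zero _
  | add p q _ _ hp hq => rw [map_add, hp, hq, add_zero]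
  | smul r p _ hp => rw [map_smul, hp, smul_zero]

variable {X : Sp S} {T : Over S} {g : (yon S).obj T ⟶ X} (hg : Representable g)

theorem isFinitePresentation_unit {Y : Sp S} (hY : IsAlgSpace Y) (hN : IsLocNoethSp Y) :
    (unitModEt Y).IsFinitePresentation :=
  isFinitePresentation_of_finite hY hN ((isQuasicoherent_iff_isBCEt _).2 fun _ _ k _ _ => isBC_unit k) fun E _ =>
    (inferInstanceAs (Module.Finite (OSec E) (OSec E)))

/-- Points of a fibre product over a given point of the chart. -/
theorem finite_fibre (hr : RepWith @IsFinite g) (E : EtOver X) (e : E.obj.left.left) :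
    {t : T.left | Points.ofPt g t = Points.ofPt E.obj.hom e}.Finite := by
  have hg : Representable g := hr.1
  have sq := isPullback_toT hg E
  have : IsFinite (toU hg E).left := hr.property _ _ _ sq
  refine ((Scheme.Hom.finite_preimage_singleton (toU hg E).left e).image fun v => (toT hg E).left v).subset ?_
  intro t ht
  obtain ⟨p, hp₁, hp₂⟩ := exists_point_of_isPullback sq (Points.ofScheme T t) (Points.ofScheme E.obj.left e)
    ((Points.ofPt_eq_map_ofScheme g t).symm.trans (ht.trans (Points.ofPt_eq_map_ofScheme E.obj.hom e)))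
  obtain ⟨v, rfl⟩ := (Points.schemeEquiv (bcO hg E).obj.left).surjective p
  refine ⟨v, ?_, ?_⟩
  · refine (Points.schemeEquiv E.obj.left).injective ?_
    refine Eq.trans ?_ hp₂
    change Points.ofScheme _ _ = Points.map _ (Points.ofScheme _ _)
    rw [← Points.ofPt_eq_map_ofScheme, ← Category.comp_id ((yon S).map (toU hg E)), ofPt_map]
  · refine (Points.schemeEquiv T).injective ?_
    refine Eq.trans ?_ hp₁
    change Points.ofScheme _ _ = Points.map _ (Points.ofScheme _ _)
    rw [← Points.ofPt_eq_map_ofScheme, ← Category.comp_id ((yon S).map (toT hg E)), ofPt_map]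

/-- A function avoiding finitely many points, zero on a disjoint closed set. -/
theorem exists_fn {W : Scheme.{u}} [IsAffine W] {C Φ : Set W} (hC : IsClosed C) (hΦ : Φ.Finite)
    (hd : Disjoint C Φ) :
    ∃ c : Γ(W, ⊤), (∀ t ∈ C, t ∉ W.basicOpen c) ∧ ∀ t ∈ Φ, t ∈ W.basicOpen c := by
  classical
  let I : Ideal Γ(W, ⊤) :=
    { carrier := {c | ∀ t ∈ C, t ∉ W.basicOpen c}
      add_mem' := fun {a b} ha hb t ht => by
        rw [Scheme.mem_basicOpen_top, map_add]
        intro hu
        rcases IsLocalRing.isUnit_or_isUnit_of_isUnit_add hu with h | h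
        · exact ha t ht ((Scheme.mem_basicOpen_top _ _ _).2 h)
        · exact hb t ht ((Scheme.mem_basicOpen_top _ _ _).2 h)
      zero_mem' := fun t _ => by rw [Scheme.mem_basicOpen_top, map_zero]; exact not_isUnit_zero
      smul_mem' := fun r a ha t ht => by
        rw [smul_eq_mul, Scheme.mem_basicOpen_top, map_mul]
        exact fun hu => ha t ht ((Scheme.mem_basicOpen_top _ _ _).2 (isUnit_of_mul_isUnit_right hu)) }
  let p : W → Ideal Γ(W, ⊤) := fun t =>
    (IsLocalRing.maximalIdeal (W.presheaf.stalk t)).comap (W.presheaf.germ ⊤ t trivial).hom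
  have hp : ∀ t a, a ∈ p t ↔ t ∉ W.basicOpen a := fun t a => by
    rw [Scheme.mem_basicOpen_top]
    exact IsLocalRing.mem_maximalIdeal _
  have hnot : ∀ t ∈ Φ, ¬ I ≤ p t := fun t ht hle => by
    obtain ⟨_, ⟨b, rfl⟩, htb, hbC⟩ := (isAffineOpen_top W).exists_basicOpen_le
      (V := ⟨Cᶜ, hC.isOpen_compl⟩) ⟨t, fun h => Set.disjoint_left.1 hd h ht⟩ trivial |>
      fun ⟨b, hb₁, hb₂⟩ => (⟨W.basicOpen b, ⟨b, rfl⟩, hb₂, hb₁⟩ :
        ∃ V : W.Opens, (∃ b, W.basicOpen b = V) ∧ t ∈ V ∧ (V : Set W) ⊆ Cᶜ)
    exact (hp t b).1 (hle fun s hs hsb => hbC hsb hs) htb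
  have key : ¬ ((I : Set Γ(W, ⊤)) ⊆ ⋃ t ∈ (hΦ.toFinset : Set W), (p t : Set Γ(W, ⊤))) := by
    intro hsub
    rcases hΦ.toFinset.eq_empty_or_nonempty with he | ⟨t₀, ht₀⟩
    · rw [he] at hsub
      simpa using hsub I.zero_mem
    · obtain ⟨t, ht, hle⟩ := (Ideal.subset_union_prime t₀ t₀ (fun i _ _ _ =>
        (inferInstance : (p i).IsPrime))).1 hsub
      exact hnot t (hΦ.mem_toFinset.1 ht) hle
  obtain ⟨c, hc, hcn⟩ := Set.not_subset.1 key
  refine ⟨c, hc, fun t ht => ?_⟩
  by_contra h
  exact hcn (Set.mem_iUnion₂.2 ⟨t, hΦ.mem_toFinset.2 ht, (hp t c).2 h⟩)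

end Groth.Agent.H13Serre
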