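import Groth.Agent.H13Serre.Sections
import Groth.Agent.H13EtMod.Coh
import Groth.Agent.H12AlgSp.SubExt.Basic
import Mathlib.RingTheory.Localization.Free
import Mathlib.RingTheory.Localization.BaseChange
import Mathlib.RingTheory.Spectrum.Prime.Topology

/-!
Generic freeness of finitely presented modules on reduced charts.
-/

set_option autoImplicit false
set_option backward.isDefEq.respectTransparency false
set_option linter.style.haveILetI false

universe u

open CategoryTheory CategoryTheory.Limits AlgebraicGeometry Opposite
open AlgSp Groth.Agent.H12AlgSp Groth.Agent.H12AlgSp.BCMod Groth.Agent.H12AlgSp.SubExt Groth.Agent.H13EtMod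
open scoped TensorProduct

namespace Groth.Agent.H13Serre

/-- Over a reduced nonzero ring, a finitely presented module is free after inverting some non-nilpotent element. -/
theorem exists_free_away {A : Type*} [CommRing A] [IsReduced A] [Nontrivial A] (M : Type*) [AddCommGroup M]
    [Module A M] [Module.FinitePresentation A M] :
    ∃ f : A, ¬ IsNilpotent f ∧
      Module.Free (Localization (Submonoid.powers f)) (LocalizedModule.Away f M) := by
  obtain ⟨p, hp⟩ := (minimalPrimes A).eq_empty_or_nonempty.resolve_left (by
    intro h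
    obtain ⟨m, hm⟩ := Ideal.exists_maximal A
    obtain ⟨q, hq, -⟩ := Ideal.exists_minimalPrimes_le (bot_le : ⊥ ≤ m)
    exact Set.eq_empty_iff_forall_notMem.1 h q hq)
  have hprime : p.IsPrime := hp.1.1
  have hsub : Subsingleton (PrimeSpectrum (Localization.AtPrime p)) := ⟨fun a b => by
    have key : ∀ c : PrimeSpectrum (Localization.AtPrime p),
        c.asIdeal = IsLocalRing.maximalIdeal _ := fun c => by
      refine le_antisymm (IsLocalRing.le_maximalIdeal c.isPrime.ne_top) ?_
      have h1 : (c.asIdeal.comap (algebraMap A (Localization.AtPrime p))) ≤ p := by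
        refine (Ideal.comap_mono (IsLocalRing.le_maximalIdeal c.isPrime.ne_top)).trans ?_
        exact (IsLocalization.AtPrime.comap_maximalIdeal (Localization.AtPrime p) p).le
      have h2 := hp.2 ⟨Ideal.IsPrime.comap _, bot_le⟩ h1
      rw [← IsLocalization.map_comap p.primeCompl (Localization.AtPrime p) c.asIdeal,
        ← IsLocalization.map_comap p.primeCompl (Localization.AtPrime p) (IsLocalRing.maximalIdeal _),
        IsLocalization.AtPrime.comap_maximalIdeal (Localization.AtPrime p) p]
      exact Ideal.map_mono h2
    exact PrimeSpectrum.ext ((key a).trans (key b).symm)⟩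
  have hfield : IsField (Localization.AtPrime p) := PrimeSpectrum.subsingleton_iff_isField_of_isReduced.1 hsub
  letI := hfield.toField
  have : Module.Free (Localization.AtPrime p) (LocalizedModule.AtPrime p M) := Module.Free.of_divisionRing _ _
  obtain ⟨f, hf, hfree, -⟩ := Module.FinitePresentation.exists_free_localizedModule_powers p.primeCompl
    (LocalizedModule.mkLinearMap p.primeCompl M) (Localization.AtPrime p)
  exact ⟨f, fun ⟨n, hn⟩ => hf (hp.1.1.mem_of_pow_mem n (hn ▸ p.zero_mem)), hfree⟩

variable {S : Scheme.{u}} {X : Sp S}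

/-- Freeness passes to affine objects mapping to the given one. -/
theorem free_of_hom {M : ModEt X} (hM : IsBCEt M) {Z E : EtOver X} (g : Z ⟶ E) (hZ : IsAffine Z.obj.left.left)
    (hE : IsAffine E.obj.left.left) [Module.Free (OSec E) ((pm M).obj (op E))] :
    Module.Free (OSec Z) ((pm M).obj (op Z)) := by
  have : Module.Free (OSec E) (Sec (pm M) (𝟙 E)) := Module.Free.of_equiv (idEquiv (pm M) E)
  have : Module.Free (RingOf (OEt X).obj g) (Sec (pm M) g) := Module.Free.of_equiv (extEquiv (hM g hZ hE))
  exact (inferInstance : Module.Free (RingOf (OEt X).obj g) (Sec (pm M) g))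

/-- Generic freeness on an affine reduced chart. -/
theorem exists_free_open {M : ModEt X} (hM : IsBCEt M) (E : EtOver X) (hE : IsAffine E.obj.left.left)
    [IsReduced E.obj.left.left] [Nonempty E.obj.left.left] [Module.FinitePresentation (OSec E) ((pm M).obj (op E))] :
    ∃ (E' : EtOver X) (g : E' ⟶ E), IsAffine E'.obj.left.left ∧ Nonempty E'.obj.left.left ∧
      IsReduced E'.obj.left.left ∧ IsOpenImmersion g.hom.left.left ∧
      Module.Free (OSec E') ((pm M).obj (op E')) := by
  let T : Scheme.{u} := E.obj.left.left
  have : IsAffine T := hE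
  have : IsReduced T := ‹IsReduced E.obj.left.left›
  let dn : OSec E ≃+* Γ(T, ⊤) := ULift.ringEquiv
  have : _root_.IsReduced Γ(T, ⊤) := IsReduced.component_reduced _
  have : _root_.IsReduced (OSec E) := isReduced_of_injective dn (RingEquiv.injective _)
  have : Nonempty T := ‹Nonempty E.obj.left.left›
  have : Nontrivial Γ(T, ⊤) := by
    rw [← PrimeSpectrum.nonempty_iff_nontrivial]
    exact ‹Nonempty T›.map T.isoSpec.hom
  have : Nontrivial (OSec E) := dn.toEquiv.nontrivial
  have : Module.FinitePresentation (OSec E) (Sec (pm M) (𝟙 E)) :=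
    Module.finitePresentation_of_surjective (idEquiv (pm M) E).toLinearMap (idEquiv (pm M) E).surjective (by
      rw [LinearMap.ker_eq_bot.2 (idEquiv (pm M) E).injective]; exact Submodule.fg_bot)
  obtain ⟨f, hf, hfree⟩ := exists_free_away (A := OSec E) (Sec (pm M) (𝟙 E))
  let D : E.obj.left.left.Opens := E.obj.left.left.basicOpen (ULift.down f)
  have hred : IsReduced D.toScheme := @isReduced_of_isOpenImmersion D.toScheme T D.ι inferInstance ‹IsReduced T›
  let g := etOpenι E D
  have hD : IsAffine (etOpen E D).obj.left.left := (isAffineOpen_top E.obj.left.left).basicOpen _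
  refine ⟨etOpen E D, g, hD, ?_, hred, inferInstanceAs (IsOpenImmersion D.ι), ?_⟩
  · by_contra hne
    apply hf
    have h0 : D = ⊥ := TopologicalSpace.Opens.ext (Set.eq_empty_iff_forall_notMem.2 fun x hx => hne ⟨⟨x, hx⟩⟩)
    have h2 : ULift.down f = 0 := (@basicOpen_eq_bot_iff T ‹IsReduced T› ⊤ (ULift.down f)).1 h0
    exact ⟨1, (pow_one f).trans (ULift.ext _ _ h2)⟩
  · have := isLocalization_basic f hE
    letI e := IsLocalization.algEquiv (Submonoid.powers f) (Localization (Submonoid.powers f)) (RingOf (OEt X).obj g)
    letI : Algebra (Localization (Submonoid.powers f)) (RingOf (OEt X).obj g) := e.toRingEquiv.toRingHom.toAlgebra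
    haveI : IsScalarTower (OSec E) (Localization (Submonoid.powers f)) (RingOf (OEt X).obj g) :=
      IsScalarTower.of_algebraMap_eq fun a => (e.commutes a).symm
    have hb := (IsLocalizedModule.isBaseChange (Submonoid.powers f) (Localization (Submonoid.powers f))
      (LocalizedModule.mkLinearMap (Submonoid.powers f) (Sec (pm M) (𝟙 E))))
    have : Module.Free (Localization (Submonoid.powers f))
        (Localization (Submonoid.powers f) ⊗[OSec E] Sec (pm M) (𝟙 E)) := Module.Free.of_equiv hb.equiv.symm
    have : Module.Free (RingOf (OEt X).obj g) (RingOf (OEt X).obj g ⊗[OSec E] Sec (pm M) (𝟙 E)) :=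
      Module.Free.of_equiv (TensorProduct.AlgebraTensorModule.cancelBaseChange (OSec E)
        (Localization (Submonoid.powers f)) (RingOf (OEt X).obj g) (RingOf (OEt X).obj g) (Sec (pm M) (𝟙 E)))
    have : Module.Free (RingOf (OEt X).obj g) (Sec (pm M) g) := Module.Free.of_equiv (extEquiv (hM g hD hE))
    exact (inferInstance : Module.Free (RingOf (OEt X).obj g) (Sec (pm M) g))

end Groth.Agent.H13Serre
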