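import Groth.Agent.H13Serre.Sections
import Groth.Agent.H12AlgSp.SubExt.Main
import Groth.Agent.H12AlgSp.SubExt.Subobj
import Groth.Agent.H12AlgSp.SubExt.IdealFT
import Groth.Agent.H12AlgSp.BCMod.Annihilated
import Groth.Agent.H12AlgSp.IdealEt
import Groth.Agent.H12AlgSp.BCMod.ClosedPush
import Groth.Agent.H12AlgSp.OnePointSpace
import Groth.Agent.H12AlgSp.DecentTop
import Groth.Agent.H12AlgSp.QSPullback
import Groth.Agent.H13AlgSp.RedInduced
import Groth.Agent.H13EtMod.Coh

/-!
With vanishing `H¹`, quasi-coherent modules are generated by their global sections.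
-/

set_option autoImplicit false
set_option backward.isDefEq.respectTransparency false
set_option linter.style.haveILetI false

universe u

open CategoryTheory CategoryTheory.Limits AlgebraicGeometry Opposite
open AlgSp Groth.Agent.H13AlgSp Groth.Agent.H12AlgSp Groth.Agent.H12AlgSp.BCMod Groth.Agent.H12AlgSp.SubExt
  Groth.Agent.H13EtMod

namespace Groth.Agent.H13Serre

variable {S : Scheme.{u}} {X : Sp S}

/-- Sections over affine objects are spanned by restrictions. -/
theorem mem_resSpan_top {M : ModEt X} (hM : IsBCEt M) {Z E : EtOver X} (g : Z ⟶ E) (hZ : IsAffine Z.obj.left.left)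
    (hE : IsAffine E.obj.left.left) (K : Set ((pm M).obj (op E))) (hK : ∀ y, y ∈ K)
    (x : (pm M).obj (op Z)) : x ∈ resSpan g K := by
  obtain ⟨t, ht⟩ := (hM g hZ hE).2 (toSec (pm M) g x)
  have key : ∀ t, ofSec (pm M) (ext (pm M) g t) ∈ resSpan g K := by
    intro t
    induction t with
    | zero => rw [map_zero]; exact Submodule.zero_mem _
    | add p q hp hq => rw [map_add]; exact Submodule.add_mem _ hp hq
    | tmul b y =>
      rw [ext_tmul]
      exact Submodule.smul_mem _ (show (OEt X).obj.obj (op Z) from b)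
        (Submodule.subset_span ⟨ofSec (pm M) y, hK _, rfl⟩)
  have := key t
  rw [ht] at this
  exact this

/-- An object near a point on which the module vanishes. -/
def Vanishes (M : ModEt X) (x : Points X) : Prop :=
  ∃ (W : EtOver X) (w : W.obj.left.left), IsAffine W.obj.left.left ∧ Points.ofPt W.obj.hom w = x ∧
    ∀ z : (pm M).obj (op W), z = 0

theorem isOpen_vanishes (M : ModEt X) : IsOpen {x | Vanishes M x} := by
  rw [isOpen_iff_forall_mem_open]
  rintro x ⟨W, w, hW, hx, h⟩
  refine ⟨Set.range (Points.ofPt W.obj.hom), ?_, H12AlgSp.isOpen_range_ofPt W, ⟨w, hx⟩⟩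
  rintro _ ⟨w', rfl⟩
  exact ⟨W, w', hW, rfl, h⟩

/-- A module vanishing near every point vanishes on the chart. -/
theorem eq_zero_of_vanishes (hX : IsAlgSpace X) {M : ModEt X} (hM : IsBCEt M) (h : ∀ x, Vanishes M x)
    (E : EtOver X) (y : (pm M).obj (op E)) : y = 0 := by
  let R : Sieve E :=
    { arrows := fun V g => ((pm M).map g.op).hom y = 0
      downward_closed := fun {V V'} g hg r => by
        rw [← map_comp_sec g r y, hg, map_zero] }
  refine sheaf_ext (P := pm M) M.isSheaf (R := R) (mem_etTop_of_forall_point R fun e => ?_) y 0 ?_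
  · obtain ⟨W, w, hW, hx, hz⟩ := h (Points.ofPt E.obj.hom e)
    obtain ⟨V, g₁, g₂, v, hv, -, -, -⟩ := GlobalFun.exists_common hX E W e w hx.symm
    obtain ⟨V', k, v', hV', hk, -⟩ := exists_affine_etOpen v ⊤ trivial
    refine ⟨V', k ≫ g₁, v', ?_, ?_⟩
    · have hmem := mem_resSpan_top hM (k ≫ g₂) hV' hW {0} (fun z => hz z) (((pm M).map (k ≫ g₁).op).hom y)
      rw [resSpan, Set.image_singleton, map_zero, Submodule.span_zero_singleton, Submodule.mem_bot] at hmem
      exact hmem
    · change g₁.hom.left.left (k.hom.left.left v') = e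
      rw [hk, hv]
  · intro V g hg
    rw [map_zero]
    exact hg

/-- The product of a module with an ideal sheaf. -/
noncomputable def idealTimes {M : ModEt X} (hM : IsBCEt M) {I : IdealEt X} (hI : I.IsQCoh) :
    SubOn M (InSet (Set.univ : Set (Points X))) where
  obj E hE _ := (I.ideal E hE).map (upR E) • (⊤ : Submodule (OSec E) ((pm M).obj (op E)))
  res_mem {Z E} g hZ hE _ _ x hx := by
    refine Submodule.smul_induction_on hx (fun r hr y _ => ?_) fun a b ha hb => ?_
    · rw [map_smul_sec]
      refine Submodule.smul_mem_smul ?_ Submodule.mem_top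
      have h1 : ((OEt X).obj.map g.op).hom r ∈ ((I.ideal E hE).map g.hom.left.left.appTop.hom).map (upR Z) := by
        have h2 := Ideal.mem_map_of_mem ((OEt X).obj.map g.op).hom hr
        rw [Ideal.map_map] at h2 ⊢
        exact (le_of_eq (congrArg (fun f => (I.ideal E hE).map f) (RingHom.ext fun a => upR_map g a))) h2
      exact Ideal.map_mono (I.map_le g hE hZ) h1
    · rw [map_add]; exact Submodule.add_mem _ ha hb
  gen {Z E} g hZ hE _ _ x hx := by
    refine Submodule.smul_induction_on hx (fun r hr y hy0 => ?_) fun a b ha hb => Submodule.add_mem _ ha hb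
    clear hy0
    have hy := mem_resSpan_top hM g hZ hE Set.univ (fun _ => trivial) y
    have hr' : r ∈ ((I.ideal E hE).map g.hom.left.left.appTop.hom).map (upR Z) :=
      Ideal.map_mono (hI g hE hZ) hr
    rw [Ideal.map_map] at hr'
    rw [Ideal.map] at hr'
    clear hr
    induction hr' using Submodule.span_induction with
    | mem r hr =>
      obtain ⟨a, ha, rfl⟩ := hr
      rw [resSpan] at hy
      induction hy using Submodule.span_induction with
      | mem y hy =>
        obtain ⟨y', -, rfl⟩ := hy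
        refine Submodule.subset_span ⟨upR E a • y', Submodule.smul_mem_smul (Ideal.mem_map_of_mem _ ha) trivial, ?_⟩
        rw [map_smul_sec, upR_map]
        rfl
      | zero => rw [smul_zero]; exact Submodule.zero_mem _
      | add p q _ _ hp hq => rw [smul_add]; exact Submodule.add_mem _ hp hq
      | smul c p _ hp => rw [smul_comm]; exact Submodule.smul_mem _ c hp
    | zero => rw [zero_smul]; exact Submodule.zero_mem _
    | add p q _ _ hp hq => rw [add_smul]; exact Submodule.add_mem _ hp hq
    | smul c p _ hp => rw [smul_assoc]; exact Submodule.smul_mem _ c hp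

variable (hX : IsAlgSpace X)

/-- The quotient by a quasi-coherent submodule. -/
theorem exists_quotient {M : ModEt X} (hM : M.IsQuasicoherent)
    (N : SubOn M (InSet (Set.univ : Set (Points X)))) :
    ∃ (Q : ModEt X) (π : M ⟶ Q) (C : ShortComplex (ModEt X)) (_ : C.ShortExact),
      Q.IsQuasicoherent ∧ C.X₁.IsQuasicoherent ∧
      (∀ E : EtOver X, IsAffine E.obj.left.left → Function.Surjective (appE π E)) ∧
      (∀ (E : EtOver X) (hE : IsAffine E.obj.left.left) (x : (pm M).obj (op E)),
        appE π E x = 0 ↔ x ∈ N.obj E hE (inSet_univ E)) ∧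
      (∀ t : Q.sections, VanH1 X → ∃ s : M.sections, SheafOfModules.sectionsMap π s = t) := by
  have hBC := (isQuasicoherent_iff_isBCEt M).1 hM
  let ι := N.incl (isDown_inSet _) hBC
  have : Mono ι := N.mono_incl (isDown_inSet _) hBC
  let C := ShortComplex.mk ι (cokernel.π ι) (cokernel.condition ι)
  have hC : C.ShortExact := { exact := ShortComplex.exact_of_g_is_cokernel _ (cokernelIsCokernel ι) }
  have h₁ := SubOn.isQuasicoherent_toMod N hBC
  have hQ : (cokernel ι).IsQuasicoherent := ((qcoh_closure X).2.1 _ _ ι h₁ hM).2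
  refine ⟨_, cokernel.π ι, C, hC, hQ, h₁,
    fun E hE => surjective_app (Rsh := OEt X) (A := etAff X) hC ((isQuasicoherent_iff_isBCEt _).1 h₁) hE,
    fun E hE x => ?_, fun t h1 => exists_lift h1 hC h₁ t⟩
  have he := (exact_shortExact (Rsh := OEt X) hC E).2
  exact (he x).trans (N.mem_range_incl hBC hE x)

variable [QuasiSeparatedSpace S] (hqc : IsQuasiCompactSp X) (hqs : IsQuasiSeparatedSp X)

include hX hqc hqs in
/-- A nonzero quasi-coherent module of finite type has a nonzero global section. -/
theorem eq_zero_of_sections (h1 : VanH1 X) {E₀ : EtOver X} (h₀ : IsAtlas E₀) {M : ModEt X}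
    (hM : M.IsQuasicoherent)
    (hfg : ∀ E : EtOver X, IsAffine E.obj.left.left → Module.Finite (OSec E) ((pm M).obj (op E)))
    (hs : ∀ s : M.sections, sv s E₀ = 0) (y : (pm M).obj (op E₀)) : y = 0 := by
  have hBC := (isQuasicoherent_iff_isBCEt M).1 hM
  by_contra hy
  let T : Set (Points X) := {x | Vanishes M x}ᶜ
  have hTne : T.Nonempty := by
    by_contra hne
    rw [Set.not_nonempty_iff_eq_empty] at hne
    exact hy (eq_zero_of_vanishes hX hBC (fun x => (Set.compl_empty_iff.1 hne).ge (Set.mem_univ x)) E₀ y)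
  have hTc : IsClosed T := (isOpen_vanishes M).isClosed_compl
  have := compactSpace_points_of_isQuasiCompactSp hqc
  have := t0Space_points hX (isDecent_of_isQuasiSeparatedSp hX hqs)
  obtain ⟨x, hxT, hxc⟩ := hTc.exists_closed_singleton hTne
  obtain ⟨Z, i, hZ, hcl, hrange, -⟩ := exists_isRedInduced hX (T := {x}) hxc
  let Xs : Space S := ⟨X, hX⟩
  let Zs : Space S := ⟨Z, hZ⟩
  let iS : Zs ⟶ Xs := ObjectProperty.homMk i
  have hi : RepWith @IsClosedImmersion iS.hom := hcl
  let I := idealOfRep hi.1
  have hcut : IsCutOutBy I i := ⟨hcl, rfl⟩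
  have hI : I.IsQCoh := isQCoh_of_isCutOutBy hcut
  -- the module is not killed modulo the ideal
  obtain ⟨Q, π, C, -, hQ, -, hsurj, hker, hlift⟩ := exists_quotient hM (idealTimes hBC hI)
  have hE₀ := h₀.1
  have hne : ∃ z : (pm Q).obj (op E₀), z ≠ 0 := by
    by_contra hall
    simp only [not_exists, not_not] at hall
    have htop : (⊤ : Submodule (OSec E₀) ((pm M).obj (op E₀))) ≤ (I.ideal E₀ hE₀).map (upR E₀) • ⊤ :=
      fun m _ => (hker E₀ hE₀ m).1 (hall _)
    obtain ⟨r, hr1, hr0⟩ := Submodule.exists_sub_one_mem_and_smul_eq_zero_of_fg_of_le_smul _ _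
      (hfg E₀ hE₀).fg_top htop
    obtain ⟨u, hu⟩ := h₀.2 x
    have hr1' : (ULift.down r) - 1 ∈ I.ideal E₀ hE₀ := by
      have h2 := Ideal.mem_map_of_mem (ULift.ringEquiv : OSec E₀ ≃+* Γ(E₀.obj.left.left, ⊤)).toRingHom hr1
      rw [Ideal.map_map] at h2
      rw [show (ULift.ringEquiv : OSec E₀ ≃+* Γ(E₀.obj.left.left, ⊤)).toRingHom.comp (upR E₀) = RingHom.id _ from
        RingHom.ext fun a => rfl, Ideal.map_id] at h2
      exact h2
    have hu' := (mem_range_iff_ideal hcut E₀ hE₀ u).1 (by rw [hu, hrange]; rfl)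
    have hur : u ∈ E₀.obj.left.left.basicOpen (ULift.down r) := by
      by_contra hnot
      let r₀ : Γ(E₀.obj.left.left, ⊤) := ULift.down r
      change ¬u ∈ E₀.obj.left.left.basicOpen r₀ at hnot
      have h2 := hu' (r₀ - 1) hr1'
      rw [Scheme.mem_basicOpen_top] at hnot h2
      have hsum : (E₀.obj.left.left.presheaf.germ ⊤ u trivial).hom (1 : Γ(E₀.obj.left.left, ⊤)) =
          (E₀.obj.left.left.presheaf.germ ⊤ u trivial).hom r₀ -
          (E₀.obj.left.left.presheaf.germ ⊤ u trivial).hom (r₀ - 1) := by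
        rw [← map_sub, sub_sub_cancel]
      refine (IsLocalRing.maximalIdeal.isMaximal (E₀.obj.left.left.presheaf.stalk u)).ne_top
        ((Ideal.eq_top_iff_one _).2 ?_)
      rw [map_one] at hsum
      rw [hsum]
      exact Ideal.sub_mem _ ((IsLocalRing.mem_maximalIdeal _).2 hnot) ((IsLocalRing.mem_maximalIdeal _).2 h2)
    let D := etOpen E₀ (E₀.obj.left.left.basicOpen (ULift.down r))
    refine hxT ⟨D, ⟨u, hur⟩, (isAffineOpen_top E₀.obj.left.left).basicOpen _, ?_, fun z => ?_⟩
    · rw [ofPt_comp (etOpenι E₀ _)]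
      exact hu
    · have hz := mem_resSpan_top hBC (etOpenι E₀ _) ((isAffineOpen_top E₀.obj.left.left).basicOpen _) hE₀
        Set.univ (fun _ => trivial) z
      rw [resSpan] at hz
      induction hz using Submodule.span_induction with
      | mem z hz =>
        obtain ⟨m, -, rfl⟩ := hz
        have h2 := map_smul_sec (etOpenι E₀ (E₀.obj.left.left.basicOpen (ULift.down r))) r m
        rw [hr0 m trivial, map_zero] at h2
        exact (IsUnit.smul_eq_zero (isUnit_OEt_map_open E₀ r)).1 h2.symm
      | zero => rfl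
      | add p q _ _ hp hq => rw [hp, hq, add_zero]
      | smul c p _ hp => rw [hp, smul_zero]
  obtain ⟨z, hz⟩ := hne
  -- the quotient lives on the point
  have hk : KillsF hi Q := killsF_of_ann hi hcut fun E hE q => fun a ha => by
    rw [mem_annSect_iff]
    obtain ⟨m, rfl⟩ := hsurj E hE q
    refine (map_smul (appE π E) (upR E a) m).symm.trans ((hker E hE _).2 ?_)
    exact Submodule.smul_mem_smul (Ideal.mem_map_of_mem _ ha) Submodule.mem_top
  obtain ⟨G, ⟨e⟩⟩ := exists_pushModEt_iso hi hk (subsingleton_of_disjoint hi hk)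
  have hG : IsBCEt G := (isQuasicoherent_iff_isBCEt _).1 (isQuasicoherent_of_pushModEt_iso hi e)
  have : Mono i := mono_of_repWith (fun _ _ k (_ : IsClosedImmersion k) => (inferInstance : Mono k)) hcl
  have hsub : Subsingleton (Points Z) := ⟨fun a b => injective_map_of_mono i (by
    have ha : Points.map i a ∈ ({x} : Set (Points X)) := hrange ▸ ⟨a, rfl⟩
    have hb : Points.map i b ∈ ({x} : Set (Points X)) := hrange ▸ ⟨b, rfl⟩
    rw [Set.mem_singleton_iff.1 ha, Set.mem_singleton_iff.1 hb])⟩
  have hne' : Nonempty (Points Z) := by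
    obtain ⟨a, -⟩ : x ∈ Set.range (Points.map i) := hrange ▸ rfl
    exact ⟨a⟩
  obtain ⟨T₁, ⟨d⟩⟩ := exists_iso_of_one_point hZ (isDecent_of_representable_mor hcl.1 (isDecent_of_isQuasiSeparatedSp hX hqs))
  have : Subsingleton T₁.left := ⟨fun a b => (Points.schemeEquiv T₁).injective
    (injective_map_of_mono d.hom (Subsingleton.elim _ _))⟩
  have : Nonempty T₁.left := (hne'.map (Points.map d.inv)).map (Points.schemeEquiv T₁).symm
  have hT₁ : IsAffine T₁.left := H13AlgSp.isAffine_of_subsingleton _
  let top : EtOver Z := EtOver.mk d.hom (repWith_of_isIso _)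
  have hterm : ∀ V : EtOver Z, ∃ k : V ⟶ top, ∀ k' : V ⟶ top, k' = k := by
    intro V
    obtain ⟨c, hc⟩ := (yon S).map_surjective (V.obj.hom ≫ d.inv)
    refine ⟨EtOver.homMk c (by
      change (yon S).map c ≫ d.hom = V.obj.hom
      rw [hc, Category.assoc, d.inv_hom_id, Category.comp_id]), fun k' => EtOver.hom_ext _ _ ?_⟩
    refine (yon S).map_injective ?_
    change (yon S).map k'.hom.left = (yon S).map c
    rw [hc, ← cancel_mono d.hom, Category.assoc, d.inv_hom_id, Category.comp_id]
    exact EtOver.w k'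
  choose k hk' using hterm
  have hsec : ∀ g : (pm G).obj (op top),
      ∃ s : Q.sections, sv s E₀ = appE e.hom E₀
        ((show (pm ((pushModEt hi.1).obj G)).obj (op E₀) from ((pm G).map (k ((EtOver.bc hi.1).obj E₀)).op).hom g)) := by
    intro g
    let s : ((pushModEt hi.1).obj G).sections := PresheafOfModules.sectionsMk
      (fun E => (show (pm ((pushModEt hi.1).obj G)).obj E from ((pm G).map (k ((EtOver.bc hi.1).obj E.unop)).op).hom g))
      (fun E E' f => by
        change ((pm G).map ((EtOver.bc hi.1).map f.unop).op).hom (((pm G).map (k ((EtOver.bc hi.1).obj E.unop)).op).hom g)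
          = ((pm G).map (k ((EtOver.bc hi.1).obj E'.unop)).op).hom g
        rw [map_comp_sec, hk' _ ((EtOver.bc hi.1).map f.unop ≫ k _)])
    exact ⟨SheafOfModules.sectionsMap e.hom s, rfl⟩
  have hQ0 : ∀ t : Q.sections, sv t E₀ = 0 := fun t => by
    obtain ⟨s, rfl⟩ := hlift t h1
    exact (congrArg (appE π E₀) (hs s)).trans (map_zero _)
  let W₀ := (EtOver.bc hi.1).obj E₀
  have hW₀ : IsAffine W₀.obj.left.left := by
    have : IsClosedImmersion (hi.1.snd E₀.obj.hom).left := hi.property _ _ _ (hi.1.isPullback E₀.obj.hom)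
    have : IsAffine E₀.obj.left.left := hE₀
    exact isAffine_of_isAffineHom (hi.1.snd E₀.obj.hom).left
  obtain ⟨w, hw⟩ : ∃ w : (pm G).obj (op W₀),
      appE e.hom E₀ (show (pm ((pushModEt hi.1).obj G)).obj (op E₀) from w) = z :=
    ⟨appE e.inv E₀ z, congrArg (fun φ : Q ⟶ Q => appE φ E₀ z) e.inv_hom_id⟩
  refine hz ?_
  rw [← hw]
  have hmem := mem_resSpan_top hG (k W₀) hW₀ hT₁ Set.univ (fun _ => trivial) w
  rw [resSpan] at hmem
  have key : ∀ v : (pm G).obj (op W₀), v ∈ ((Set.univ : Set ((pm G).obj (op top))).image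
      ((pm G).map (k W₀).op).hom) → v = 0 := by
    rintro _ ⟨g, -, rfl⟩
    obtain ⟨s, hs'⟩ := hsec g
    have h2 := hs'.symm.trans (hQ0 s)
    have h3 := congrArg (appE e.inv E₀) h2
    rw [map_zero] at h3
    exact (congrArg (fun φ : (pushModEt hi.1).obj G ⟶ (pushModEt hi.1).obj G => appE φ E₀
      (show (pm ((pushModEt hi.1).obj G)).obj (op E₀) from ((pm G).map (k W₀).op).hom g)) e.hom_inv_id).symm.trans h3
  have hw0 : w = 0 := by
    clear hw
    induction hmem using Submodule.span_induction with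
    | mem v hv => exact key v hv
    | zero => rfl
    | add p q _ _ hp hq => rw [hp, hq, add_zero]
    | smul c p _ hp => rw [hp, smul_zero]
  rw [hw0]
  exact map_zero (appE e.hom E₀)

/-- The span of the global sections. -/
noncomputable def globalSpan (M : ModEt X) : SubOn M (InSet (Set.univ : Set (Points X))) where
  obj E _ _ := Submodule.span (OSec E) (Set.range fun s : M.sections => sv s E)
  res_mem {Z E} g _ _ _ _ x hx := by
    induction hx using Submodule.span_induction with
    | mem x hx =>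
      obtain ⟨s, rfl⟩ := hx
      exact Submodule.subset_span ⟨s, (sections_map s g).symm⟩
    | zero => rw [map_zero]; exact Submodule.zero_mem _
    | add p q _ _ hp hq => rw [map_add]; exact Submodule.add_mem _ hp hq
    | smul c p _ hp => rw [map_smul_sec]; exact Submodule.smul_mem _ _ hp
  gen {Z E} g _ _ _ _ x hx := by
    refine Submodule.span_le.2 ?_ hx
    rintro _ ⟨s, rfl⟩
    exact Submodule.subset_span ⟨_, Submodule.subset_span ⟨s, rfl⟩, sections_map s g⟩

include hX hqc hqs in
/-- Quasi-coherent modules are generated by global sections on the atlas. -/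
theorem mem_globalSpan (h1 : VanH1 X) {E₀ : EtOver X} (h₀ : IsAtlas E₀) {M : ModEt X} (hM : M.IsQuasicoherent)
    (x : (pm M).obj (op E₀)) : x ∈ Submodule.span (OSec E₀) (Set.range fun s : M.sections => sv s E₀) := by
  obtain ⟨Q, π, C, -, hQ, -, -, hker, hlift⟩ := exists_quotient hM (globalSpan M)
  refine (hker E₀ h₀.1 x).1 ?_
  have hQBC := (isQuasicoherent_iff_isBCEt Q).1 hQ
  obtain ⟨P, hP, hxP⟩ := exists_mem hX hqs hQBC hqc E₀ h₀.1 (appE π E₀ x)
  let N := P.toMod (isDown_inSet _) hQBC
  let ι := P.incl (isDown_inSet _) hQBC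
  have hNq := SubOn.isQuasicoherent_toMod P hQBC
  have hNf := SubOn.isFiniteType_toMod P hQBC hP
  obtain ⟨n, hn⟩ := (SubOn.mem_range_incl P hQBC h₀.1 _).2 hxP
  have := P.mono_incl (isDown_inSet _) hQBC
  have hn0 : n = 0 := eq_zero_of_sections hX hqc hqs h1 h₀ hNq ((isFiniteType_iff hNq).1 hNf) (fun s => by
    obtain ⟨t, ht⟩ := hlift (SheafOfModules.sectionsMap ι s) h1
    refine mono_app_injective (Rsh := OEt X) ι (op E₀) ?_
    have h2 : appE π E₀ (sv t E₀) = 0 := (hker E₀ h₀.1 _).2 (Submodule.subset_span ⟨t, rfl⟩)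
    have h3 : appE π E₀ (sv t E₀) = appE ι E₀ (sv s E₀) :=
      congrArg (fun q : Q.sections => sv q E₀) ht
    exact (h3.symm.trans h2).trans (map_zero _).symm) n
  rw [← hn, hn0, map_zero]

end Groth.Agent.H13Serre
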