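import Groth.Agent.H13Serre.Les
import Groth.Agent.H13Serre.Free
import Groth.Agent.H12AlgSp.SubExt.Main
import Groth.Agent.H12AlgSp.OpenSub
import Mathlib.LinearAlgebra.Dimension.Constructions
import Mathlib.LinearAlgebra.Dimension.Free

/-!
Powers of modules, and coherent modules interpolating two modules free of the same rank on an open affine.
-/

set_option autoImplicit false
set_option backward.isDefEq.respectTransparency false
set_option linter.style.haveILetI false

universe u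

open CategoryTheory CategoryTheory.Limits AlgebraicGeometry Opposite
open AlgSp Groth.Agent.H13AlgSp Groth.Agent.H12AlgSp Groth.Agent.H12AlgSp.BCMod Groth.Agent.H12AlgSp.SubExt
  Groth.Agent.H13EtMod

namespace Groth.Agent.H13Serre

variable {S : Scheme.{u}} {X Y : Sp S}

/-- A finite power of a module. -/
noncomputable def pow (M : ModEt X) : ℕ → ModEt X
  | 0 => kernel (𝟙 M)
  | n + 1 => M ⊞ pow M n

theorem isQuasicoherent_biprod {A B : ModEt X} (hA : A.IsQuasicoherent) (hB : B.IsQuasicoherent) :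
    (A ⊞ B : ModEt X).IsQuasicoherent :=
  ((qcoh_closure X).2.2 _ (ShortComplex.Splitting.ofHasBinaryBiproduct A B).shortExact).2.1 hA hB

theorem isQuasicoherent_pow {M : ModEt X} (hM : M.IsQuasicoherent) : ∀ n, (pow M n).IsQuasicoherent
  | 0 => ((qcoh_closure X).2.1 _ _ (𝟙 M) hM hM).1
  | n + 1 => isQuasicoherent_biprod hM (isQuasicoherent_pow hM n)

theorem isFinitePresentation_biprod (hX : IsAlgSpace X) (hN : IsLocNoethSp X) {A B : ModEt X}
    [A.IsFinitePresentation] [B.IsFinitePresentation] : (A ⊞ B : ModEt X).IsFinitePresentation :=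
  isFinitePresentation_extension hX hN
    (ShortComplex.mk (biprod.inl : A ⟶ A ⊞ B) (biprod.snd : A ⊞ B ⟶ B) biprod.inl_snd)
    (ShortComplex.Splitting.ofHasBinaryBiproduct A B).shortExact

theorem isFinitePresentation_pow (hX : IsAlgSpace X) (hN : IsLocNoethSp X) (M : ModEt X) [M.IsFinitePresentation] :
    ∀ n, (pow M n).IsFinitePresentation
  | 0 => isFinitePresentation_kernel hX hN (𝟙 M)
  | n + 1 =>
    have := isFinitePresentation_pow hX hN M n
    isFinitePresentation_biprod hX hN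

/-- Sections of the image of a biproduct under an additive functor. -/
noncomputable def addEquiv (F : ModEt Y ⥤ ModEt X) [F.Additive] (A B : ModEt Y) (E : EtOver X) :
    (pm (F.obj (A ⊞ B))).obj (op E) ≃ₗ[OSec E] (pm (F.obj A)).obj (op E) × (pm (F.obj B)).obj (op E) :=
  { (LinearMap.prod (appE (F.map (biprod.fst : A ⊞ B ⟶ A)) E) (appE (F.map (biprod.snd : A ⊞ B ⟶ B)) E)) with
    invFun := fun p => appE (F.map (biprod.inl : A ⟶ A ⊞ B)) E p.1 + appE (F.map (biprod.inr : B ⟶ A ⊞ B)) E p.2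
    left_inv := fun x => by
      change appE (F.map (biprod.inl : A ⟶ A ⊞ B)) E (appE (F.map (biprod.fst : A ⊞ B ⟶ A)) E x) +
        appE (F.map (biprod.inr : B ⟶ A ⊞ B)) E (appE (F.map (biprod.snd : A ⊞ B ⟶ B)) E x) = x
      have h : F.map (biprod.fst : A ⊞ B ⟶ A) ≫ F.map (biprod.inl : A ⟶ A ⊞ B) + F.map (biprod.snd : A ⊞ B ⟶ B) ≫ F.map (biprod.inr : B ⟶ A ⊞ B) =
          𝟙 (F.obj (A ⊞ B)) := by
        rw [← F.map_comp, ← F.map_comp, ← F.map_add, biprod.total, F.map_id]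
      exact congrArg (fun φ : F.obj (A ⊞ B) ⟶ F.obj (A ⊞ B) => appE φ E x) h
    right_inv := fun p => by
      have h₁ : appE (F.map (biprod.fst : A ⊞ B ⟶ A)) E (appE (F.map (biprod.inl : A ⟶ A ⊞ B)) E p.1) = p.1 := by
        have h : F.map (biprod.inl : A ⟶ A ⊞ B) ≫ F.map (biprod.fst : A ⊞ B ⟶ A) = 𝟙 _ := by
          rw [← F.map_comp, biprod.inl_fst, F.map_id]
        exact congrArg (fun φ : F.obj A ⟶ F.obj A => appE φ E p.1) h
      have h₂ : appE (F.map (biprod.fst : A ⊞ B ⟶ A)) E (appE (F.map (biprod.inr : B ⟶ A ⊞ B)) E p.2) = 0 := by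
        have h : F.map (biprod.inr : B ⟶ A ⊞ B) ≫ F.map (biprod.fst : A ⊞ B ⟶ A) = 0 := by
          rw [← F.map_comp, biprod.inr_fst, F.map_zero]
        exact congrArg (fun φ : F.obj B ⟶ F.obj A => appE φ E p.2) h
      have h₃ : appE (F.map (biprod.snd : A ⊞ B ⟶ B)) E (appE (F.map (biprod.inl : A ⟶ A ⊞ B)) E p.1) = 0 := by
        have h : F.map (biprod.inl : A ⟶ A ⊞ B) ≫ F.map (biprod.snd : A ⊞ B ⟶ B) = 0 := by
          rw [← F.map_comp, biprod.inl_snd, F.map_zero]
        exact congrArg (fun φ : F.obj A ⟶ F.obj B => appE φ E p.1) h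
      have h₄ : appE (F.map (biprod.snd : A ⊞ B ⟶ B)) E (appE (F.map (biprod.inr : B ⟶ A ⊞ B)) E p.2) = p.2 := by
        have h : F.map (biprod.inr : B ⟶ A ⊞ B) ≫ F.map (biprod.snd : A ⊞ B ⟶ B) = 𝟙 _ := by
          rw [← F.map_comp, biprod.inr_snd, F.map_id]
        exact congrArg (fun φ : F.obj B ⟶ F.obj B => appE φ E p.2) h
      refine Prod.ext ?_ ?_
      · change appE (F.map (biprod.fst : A ⊞ B ⟶ A)) E (appE (F.map (biprod.inl : A ⟶ A ⊞ B)) E p.1 + appE (F.map (biprod.inr : B ⟶ A ⊞ B)) E p.2) = p.1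
        rw [map_add, h₁, h₂, add_zero]
      · change appE (F.map (biprod.snd : A ⊞ B ⟶ B)) E (appE (F.map (biprod.inl : A ⟶ A ⊞ B)) E p.1 + appE (F.map (biprod.inr : B ⟶ A ⊞ B)) E p.2) = p.2
        rw [map_add, h₃, h₄, zero_add] }

/-- Powers of a module free of rank `d` are free. -/
theorem free_pow (F : ModEt Y ⥤ ModEt X) [F.Additive] (M : ModEt Y) (E : EtOver X) [Nontrivial (OSec E)]
    [Module.Free (OSec E) ((pm (F.obj M)).obj (op E))] [Module.Finite (OSec E) ((pm (F.obj M)).obj (op E))] :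
    ∀ n, Module.Free (OSec E) ((pm (F.obj (pow M n))).obj (op E)) ∧
      Module.Finite (OSec E) ((pm (F.obj (pow M n))).obj (op E)) ∧
      Module.finrank (OSec E) ((pm (F.obj (pow M n))).obj (op E)) =
        n * Module.finrank (OSec E) ((pm (F.obj M)).obj (op E))
  | 0 => by
    have hz : IsZero (F.obj (pow M 0)) := F.map_isZero (isZero_kernel_of_mono (𝟙 M))
    have : Subsingleton ((pm (F.obj (pow M 0))).obj (op E)) := by
      refine subsingleton_of_forall_eq 0 fun x => ?_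
      exact congrArg (fun φ : F.obj (pow M 0) ⟶ F.obj (pow M 0) => appE φ E x) (hz.eq_of_src (𝟙 _) 0)
    exact ⟨inferInstance, inferInstance, by rw [Module.finrank_zero_of_subsingleton, zero_mul]⟩
  | n + 1 => by
    obtain ⟨h1, h2, h3⟩ := free_pow F M E n
    let e := addEquiv F M (pow M n) E
    refine ⟨Module.Free.of_equiv e.symm, Module.Finite.equiv e.symm, ?_⟩
    refine e.finrank_eq.trans ?_
    rw [Module.finrank_prod, h3]
    ring

theorem exists_pow_retract (M : ModEt X) (n : ℕ) (hn : 0 < n) :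
    ∃ (i : M ⟶ pow M n) (r : pow M n ⟶ M), i ≫ r = 𝟙 M := by
  obtain ⟨k, rfl⟩ : ∃ k, n = k + 1 := ⟨n - 1, by omega⟩
  exact ⟨(biprod.inl : M ⟶ M ⊞ pow M k), (biprod.fst : M ⊞ pow M k ⟶ M), biprod.inl_fst⟩

/-! ### Affine open objects -/

variable {E₁ : EtOver X}

theorem off_of_subsingleton {M : ModEt X} (hM : IsBCEt M) (hE₁ : IsAffine E₁.obj.left.left)
    (h : Subsingleton ((pm M).obj (op E₁))) : Off M (Set.range (Points.ofPt E₁.obj.hom))ᶜ := by
  intro E hE hin s
  exact eq_zero_of_chart hM E₁ h E (by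
    rintro _ ⟨e, rfl⟩
    exact not_not.1 (hin e)) s

include E₁ in
theorem exists_hom_to_open (hj : RepWith @IsOpenImmersion E₁.obj.hom) {E : EtOver X}
    (h : InSet (Set.range (Points.ofPt E₁.obj.hom)) E) : ∃ c : E ⟶ E₁, ∀ c' : E ⟶ E₁, c' = c := by
  have : Mono E₁.obj.hom := mono_of_openImmersion hj
  obtain ⟨g, hg⟩ := exists_factor_open hj E.obj.hom (by
    rw [range_map_eq_range_ofPt, range_map_eq_range_ofPt]
    rintro _ ⟨e, rfl⟩
    exact h e)
  obtain ⟨c, rfl⟩ := (yon S).map_surjective g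
  refine ⟨EtOver.homMk c hg, fun c' => EtOver.hom_ext _ _ ((yon S).map_injective ?_)⟩
  rw [← cancel_mono E₁.obj.hom]
  exact (EtOver.w c').trans hg.symm

/-- A submodule of finite type with given finitely many generators on an open affine object. -/
theorem exists_extend [QuasiSeparatedSpace S] (hX : IsAlgSpace X) (hqc : IsQuasiCompactSp X)
    (hqs : IsQuasiSeparatedSp X) {P : ModEt X} (hP : IsBCEt P) (hj : RepWith @IsOpenImmersion E₁.obj.hom)
    (hE₁ : IsAffine E₁.obj.left.left) {ι : Type*} [Finite ι] (γ : ι → (pm P).obj (op E₁)) :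
    ∃ N : SubOn P (InSet (Set.univ : Set (Points X))), N.FG ∧
      N.obj E₁ hE₁ (inSet_univ E₁) = Submodule.span (OSec E₁) (Set.range γ) := by
  classical
  have hO : IsOpen (Set.range (Points.ofPt E₁.obj.hom)) := H12AlgSp.isOpen_range_ofPt E₁
  have hOc : IsCompact (Set.range (Points.ofPt E₁.obj.hom)) := by
    have := hE₁
    exact isCompact_range (Points.continuous_ofPt _)
  let gens : ∀ E : EtOver X, Set ((pm P).obj (op E)) := fun E =>
    {y | ∃ (c : E ⟶ E₁) (k : ι), ((pm P).map c.op).hom (γ k) = y}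
  let N₀ : SubOn P (InSet (Set.range (Points.ofPt E₁.obj.hom))) :=
    { obj := fun E _ _ => Submodule.span (OSec E) (gens E)
      res_mem := fun {Z E} g _ _ _ _ x hx => by
        induction hx using Submodule.span_induction with
        | mem x hx =>
          obtain ⟨c, k, rfl⟩ := hx
          exact Submodule.subset_span ⟨g ≫ c, k, (map_comp_sec c g (γ k)).symm⟩
        | zero => rw [map_zero]; exact Submodule.zero_mem _
        | add p q _ _ hp hq => rw [map_add]; exact Submodule.add_mem _ hp hq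
        | smul r p _ hp => rw [map_smul_sec]; exact Submodule.smul_mem _ _ hp
      gen := fun {Z E} g _ _ pZ pE x hx => by
        refine Submodule.span_le.2 ?_ hx
        rintro _ ⟨c, k, rfl⟩
        obtain ⟨c₀, -⟩ := exists_hom_to_open hj pE
        obtain ⟨d, hd⟩ := exists_hom_to_open hj pZ
        refine Submodule.subset_span ⟨_, Submodule.subset_span ⟨c₀, k, rfl⟩, ?_⟩
        rw [map_comp_sec, hd (g ≫ c₀), ← hd c] }
  have hfg : N₀.FG := fun E _ pE => by
    obtain ⟨c₀, hc₀⟩ := exists_hom_to_open hj pE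
    refine Submodule.fg_def.2 ⟨gens E, ?_, rfl⟩
    refine (Set.finite_range fun k => ((pm P).map c₀.op).hom (γ k)).subset ?_
    rintro _ ⟨c, k, rfl⟩
    exact ⟨k, by rw [hc₀ c]⟩
  obtain ⟨N, hN, hres⟩ := exists_extension hX hqs hP hqc hO hOc N₀ hfg
  have h₁ : InSet (Set.range (Points.ofPt E₁.obj.hom)) E₁ := fun e => ⟨e, rfl⟩
  refine ⟨N, hN, (hres E₁ hE₁ h₁).trans ?_⟩
  obtain ⟨c₀, hc₀⟩ := exists_hom_to_open hj h₁
  have hid : ∀ y, ((pm P).map (𝟙 E₁).op).hom y = y := fun y => by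
    rw [op_id, (pm P).map_id]; rfl
  change Submodule.span _ (gens E₁) = _
  congr 1
  ext y
  constructor
  · rintro ⟨c, k, rfl⟩
    exact ⟨k, by rw [(hc₀ c).trans (hc₀ (𝟙 E₁)).symm, hid]⟩
  · rintro ⟨k, rfl⟩
    exact ⟨𝟙 E₁, k, hid _⟩

/-- Two coherent modules free of equal rank on an open affine are linked by a coherent module. -/
theorem exists_graph [QuasiSeparatedSpace S] (hX : IsAlgSpace X) (hqc : IsQuasiCompactSp X)
    (hqs : IsQuasiSeparatedSp X) (hN : IsLocNoethSp X) (P₁ P₂ : ModEt X) [P₁.IsFinitePresentation]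
    [P₂.IsFinitePresentation] (hj : RepWith @IsOpenImmersion E₁.obj.hom) (hE₁ : IsAffine E₁.obj.left.left)
    [Nontrivial (OSec E₁)]
    [Module.Free (OSec E₁) ((pm P₁).obj (op E₁))] [Module.Free (OSec E₁) ((pm P₂).obj (op E₁))]
    (hrank : Module.finrank (OSec E₁) ((pm P₁).obj (op E₁)) = Module.finrank (OSec E₁) ((pm P₂).obj (op E₁))) :
    ∃ (H : ModEt X) (q₁ : H ⟶ P₁) (q₂ : H ⟶ P₂), H.IsFinitePresentation ∧
      Function.Bijective (appE q₁ E₁) ∧ Function.Bijective (appE q₂ E₁) := by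
  classical
  have := finite_sec P₁ E₁ (hE := hE₁)
  have := finite_sec P₂ E₁ (hE := hE₁)
  let b₁ := Module.finBasis (OSec E₁) ((pm P₁).obj (op E₁))
  let b₂ := (Module.finBasis (OSec E₁) ((pm P₂).obj (op E₁))).reindex (finCongr hrank.symm)
  let P : ModEt X := P₁ ⊞ P₂
  have : P.IsFinitePresentation := isFinitePresentation_biprod hX hN
  have hP : IsBCEt P := isBCEt_of_fp P
  let γ : Fin (Module.finrank (OSec E₁) ((pm P₁).obj (op E₁))) → (pm P).obj (op E₁) := fun k =>
    appE (biprod.inl : P₁ ⟶ P) E₁ (b₁ k) + appE (biprod.inr : P₂ ⟶ P) E₁ (b₂ k)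
  obtain ⟨N, hNfg, hNE⟩ := exists_extend hX hqc hqs hP hj hE₁ γ
  let ι := N.incl (isDown_inSet _) hP
  have : Mono ι := N.mono_incl (isDown_inSet _) hP
  have hHfp := isFinitePresentation_of_mono hX hN ι (SubOn.isQuasicoherent_toMod N hP)
  refine ⟨_, ι ≫ biprod.fst, ι ≫ biprod.snd, hHfp, ?_, ?_⟩
  · have h1 : ∀ k, appE (biprod.fst : P ⟶ P₁) E₁ (γ k) = b₁ k := fun k => by
      rw [map_add]
      have e₁ := congrArg (fun φ : P₁ ⟶ P₁ => appE φ E₁ (b₁ k)) (biprod.inl_fst (X := P₁) (Y := P₂))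
      have e₂ := congrArg (fun φ : P₂ ⟶ P₁ => appE φ E₁ (b₂ k)) (biprod.inr_fst (X := P₁) (Y := P₂))
      exact (congrArg₂ (· + ·) e₁ e₂).trans (add_zero _)
    exact bijective_of_span N hP hE₁ hNE (biprod.fst : P ⟶ P₁) b₁ h1
  · have h1 : ∀ k, appE (biprod.snd : P ⟶ P₂) E₁ (γ k) = b₂ k := fun k => by
      rw [map_add]
      have e₁ := congrArg (fun φ : P₁ ⟶ P₂ => appE φ E₁ (b₁ k)) (biprod.inl_snd (X := P₁) (Y := P₂))
      have e₂ := congrArg (fun φ : P₂ ⟶ P₂ => appE φ E₁ (b₂ k)) (biprod.inr_snd (X := P₁) (Y := P₂))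
      exact (congrArg₂ (· + ·) e₁ e₂).trans (zero_add _)
    exact bijective_of_span N hP hE₁ hNE (biprod.snd : P ⟶ P₂) b₂ h1
where
  bijective_of_span {P Q : ModEt X} (N : SubOn P (InSet (Set.univ : Set (Points X)))) (hP : IsBCEt P)
      (hE₁ : IsAffine E₁.obj.left.left) {ι : Type} [Fintype ι] {γ : ι → (pm P).obj (op E₁)}
      (hNE : N.obj E₁ hE₁ (inSet_univ E₁) = Submodule.span (OSec E₁) (Set.range γ)) (p : P ⟶ Q)
      (b : Module.Basis ι (OSec E₁) ((pm Q).obj (op E₁))) (h : ∀ k, appE p E₁ (γ k) = b k) :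
      Function.Bijective (appE (N.incl (isDown_inSet _) hP ≫ p) E₁) := by
    have := N.mono_incl (isDown_inSet _) hP
    let i := appE (N.incl (isDown_inSet _) hP) E₁
    have hi : Function.Injective i := mono_app_injective (Rsh := OEt X) (N.incl (isDown_inSet _) hP) (op E₁)
    have hrange : ∀ x, x ∈ LinearMap.range i ↔ ∃ c : ι → OSec E₁, ∑ k, c k • γ k = x := fun x => by
      rw [SubOn.mem_range_incl N hP hE₁ x, hNE, Submodule.mem_span_range_iff_exists_fun]
    have hp : ∀ c : ι → OSec E₁, appE p E₁ (∑ k, c k • γ k) = b.equivFun.symm c := fun c => by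
      rw [map_sum, Module.Basis.equivFun_symm_apply]
      exact Finset.sum_congr rfl fun k _ => by rw [map_smul, h]
    refine ⟨fun x y e => hi ?_, fun z => ?_⟩
    · obtain ⟨c, hc⟩ := (hrange _).1 ⟨x, rfl⟩
      obtain ⟨d, hd⟩ := (hrange _).1 ⟨y, rfl⟩
      have e' : appE p E₁ (i x) = appE p E₁ (i y) := e
      rw [← hc, ← hd, hp, hp] at e'
      rw [← hc, ← hd, b.equivFun.symm.injective e']
    · obtain ⟨x, hx⟩ := (hrange (∑ k, b.equivFun z k • γ k)).2 ⟨_, rfl⟩
      refine ⟨x, ?_⟩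
      change appE p E₁ (i x) = z
      rw [hx, hp, LinearEquiv.symm_apply_apply]

end Groth.Agent.H13Serre
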