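import Groth.Agent.H13Serre.Generated
import Groth.Agent.H13EtMod.Annihilator
import Groth.Agent.S10751
import Groth.Agent.H13AlgSp.AffineLocal
import Groth.Agent.S10754

/-!
Vanishing of cohomology along exact sequences, and for coherent modules supported on an affine closed subspace.
-/

set_option autoImplicit false
set_option backward.isDefEq.respectTransparency false
set_option linter.style.haveILetI false

universe u

open CategoryTheory CategoryTheory.Limits AlgebraicGeometry Opposite CategoryTheory.Abelian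
open AlgSp Groth.Agent.H13AlgSp Groth.Agent.H12AlgSp Groth.Agent.H12AlgSp.BCMod Groth.Agent.H12AlgSp.SubExt
  Groth.Agent.H13EtMod

namespace Groth.Agent.H13Serre

variable {S : Scheme.{u}} {X : Sp S}

/-- A module has no cohomology in a degree. -/
abbrev Van (M : ModEt X) (q : ℕ) : Prop := Subsingleton (HModEt X M q)

theorem shortExact_toAbEt {C : ShortComplex (ModEt X)} (hC : C.ShortExact) : (C.map (toAbEt X)).ShortExact := by
  have := H13AlgSp.EtGen.preservesFiniteColimits_toAbEt X
  exact hC.map_of_exact (toAbEt X)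

theorem van_middle {C : ShortComplex (ModEt X)} (hC : C.ShortExact) {q : ℕ} (h₁ : Van C.X₁ q) (h₃ : Van C.X₃ q) :
    Van C.X₂ q := by
  refine subsingleton_of_forall_eq 0 fun x => ?_
  obtain ⟨y, hy⟩ := Ext.covariant_sequence_exact₂ _ (shortExact_toAbEt hC) x
    (@Subsingleton.elim _ h₃ _ _)
  rw [← hy, @Subsingleton.elim _ h₁ y 0, Ext.zero_comp]

theorem van_right {C : ShortComplex (ModEt X)} (hC : C.ShortExact) {q : ℕ} (h₂ : Van C.X₂ q)
    (h₁ : Van C.X₁ (q + 1)) : Van C.X₃ q := by
  refine subsingleton_of_forall_eq 0 fun x => ?_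
  obtain ⟨y, hy⟩ := Ext.covariant_sequence_exact₃ _ (shortExact_toAbEt hC) x rfl
    (@Subsingleton.elim _ h₁ _ _)
  rw [← hy, @Subsingleton.elim _ h₂ y 0, Ext.zero_comp]

theorem van_retract {M N : ModEt X} (i : M ⟶ N) (r : N ⟶ M) (h : i ≫ r = 𝟙 M) {q : ℕ} (hN : Van N q) :
    Van M q := by
  refine subsingleton_of_forall_eq 0 fun x => ?_
  have h2 : (Ext.mk₀ ((toAbEt X).map i)).comp (Ext.mk₀ ((toAbEt X).map r)) (zero_add 0) =
      Ext.mk₀ (𝟙 ((toAbEt X).obj M)) := by
    rw [Ext.mk₀_comp_mk₀, ← Functor.map_comp, h, CategoryTheory.Functor.map_id]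
  have h3 := Ext.comp_assoc x (Ext.mk₀ ((toAbEt X).map i)) (Ext.mk₀ ((toAbEt X).map r)) (add_zero q) (zero_add 0)
    (show q + 0 + 0 = q from rfl)
  rw [h2, Ext.comp_mk₀_id, @Subsingleton.elim _ hN (x.comp (Ext.mk₀ ((toAbEt X).map i)) (add_zero q)) 0,
    Ext.zero_comp] at h3
  exact h3.symm

theorem van_of_isZero {M : ModEt X} (h : IsZero M) (q : ℕ) : Van M q := by
  refine subsingleton_of_forall_eq 0 fun x => ?_
  have h0 : 𝟙 ((toAbEt X).obj M) = 0 := ((toAbEt X).map_isZero h).eq_of_src _ _
  have h2 := Ext.comp_mk₀_id x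
  rw [h0, Ext.mk₀_zero, Ext.comp_zero] at h2
  exact h2.symm

theorem isZero_of_sections {M : ModEt X}
    (h : ∀ (E : EtOver X), IsAffine E.obj.left.left → ∀ s : (pm M).obj (op E), s = 0) : IsZero M := by
  rw [IsZero.iff_id_eq_zero]
  refine hom_ext_affine fun E hE s => ?_
  exact (h E hE (appE (𝟙 M) E s)).trans (h E hE _).symm

/-- A module vanishing away from a set of points. -/
def Off (M : ModEt X) (T : Set (Points X)) : Prop :=
  ∀ (E : EtOver X), IsAffine E.obj.left.left → InSet Tᶜ E → ∀ s : (pm M).obj (op E), s = 0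

theorem Off.of_injective {M N : ModEt X} {T : Set (Points X)} (hM : Off M T) (f : N ⟶ M) [Mono f] : Off N T :=
  fun E hE h s => mono_app_injective (Rsh := OEt X) f (op E) ((hM E hE h _).trans (map_zero _).symm)

theorem Off.mono {M : ModEt X} {T T' : Set (Points X)} (hM : Off M T) (h : T ⊆ T') : Off M T' :=
  fun E hE he s => hM E hE (fun e hmem => he e (h hmem)) s

theorem isZero_stalk_of_off (hX : IsAlgSpace X) {M : ModEt X} {T : Set (Points X)} (hTc : IsClosed T)
    (hM : Off M T) (x : FieldPt X) (hx : x.IsGeometric) (hxT : Points.mk x ∉ T) :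
    IsZero (stalkEt x ((toAbEt X).obj M)) := by
  by_contra hne
  obtain ⟨U, σ, u, hu, hσ⟩ := (H12AlgSp.not_isZero_stalk_iff hX _ (Points.mk x)).1 ⟨x, hx, rfl, hne⟩
  obtain ⟨V, g, v, hV, hgv, hVT⟩ := exists_affine_etOpen (E := U) u
    ⟨Points.ofPt U.obj.hom ⁻¹' Tᶜ, hTc.isOpen_compl.preimage (Points.continuous_ofPt _)⟩ (show _ ∈ Tᶜ from hu ▸ hxT)
  refine hσ V g ?_ ⟨v, hgv⟩
  exact hM V hV (fun e => by rw [ofPt_comp g e]; exact hVT e) _

variable {Xs : Space S}

/-- Coherent modules vanishing away from an affine closed subspace have no higher cohomology. -/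
theorem van_of_off (hqc : IsQuasiCompactSp Xs.obj) (hN : IsLocNoethSp Xs.obj) {Z : Space S} (i : Z ⟶ Xs)
    (hi : RepWith @IsClosedImmersion i.hom) {TZ : Over S} (hTZ : IsAffine TZ.left)
    (e : (yon S).obj TZ ≅ Z.obj) (M : ModEt Xs.obj) [M.IsFinitePresentation]
    (hoff : Off M (Set.range (Points.map i.hom))) (q : ℕ) (hq : 0 < q) : Van M q := by
  have hX := Xs.property
  let I := idealOfRep hi.1
  have hcut : IsCutOutBy I i.hom := ⟨hi, rfl⟩
  have hI : I.IsQCoh := isQCoh_of_isCutOutBy hcut
  have haff : IsAffineMor i.hom := H13AlgSp.isAffineMor_iff.2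
    (repWith_le (fun _ _ k (_ : IsClosedImmersion k) => inferInstanceAs (IsAffineHom k)) hi)
  have hTc : IsClosed (Set.range (Points.map i.hom)) :=
    (isClosedMap_map_of_repWith (fun _ _ k (_ : IsClosedImmersion k) => inferInstance) hi).isClosed_range
  obtain ⟨n, hn⟩ := exists_kills hX hqc hN hI hcut M fun x hx hxT => isZero_stalk_of_off hX hTc hoff x hx hxT
  suffices key : ∀ (n : ℕ) (M : ModEt Xs.obj), M.IsFinitePresentation →
      (∀ (E : EtOver Xs.obj) (hE : IsAffine E.obj.left.left) (s : sectModEt M E),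
        (I ^ n).ideal E hE ≤ annSect s) → Van M q by
    exact key n M inferInstance hn
  intro n
  induction n with
  | zero =>
    intro M _ h
    refine van_of_isZero (isZero_of_sections fun E hE s => ?_) q
    have h1 := (annEl_upR s 1).1 (h E hE s (by
      change (1 : Γ(E.obj.left.left, ⊤)) ∈ I.ideal E hE ^ 0
      rw [pow_zero, Ideal.one_eq_top]; trivial))
    rwa [map_one, one_smul] at h1
  | succ k ih =>
    intro M hMfp h
    have hBC := isBCEt_of_fp M
    let N := idealTimes hBC hI
    let ι := N.incl (isDown_inSet _) hBC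
    have : Mono ι := N.mono_incl (isDown_inSet _) hBC
    have hq₁ := SubOn.isQuasicoherent_toMod N hBC
    have hfp₁ := isFinitePresentation_of_mono hX hN ι hq₁
    have hQ : (cokernel ι).IsQuasicoherent := ((qcoh_closure Xs.obj).2.1 _ _ ι hq₁ inferInstance).2
    let C := ShortComplex.mk ι (cokernel.π ι) (cokernel.condition ι)
    have hC : C.ShortExact := { exact := ShortComplex.exact_of_g_is_cokernel _ (cokernelIsCokernel ι) }
    refine van_middle hC (ih _ hfp₁ fun E hE s => fun b hb => ?_) ?_
    · rw [annEl_upR]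
      refine mono_app_injective (Rsh := OEt Xs.obj) ι (op E) ?_
      refine ((appE ι E).map_smul (upR E b) s).trans (Eq.trans ?_ (map_zero _).symm)
      have hs := (SubOn.mem_range_incl N hBC hE _).1 ⟨s, rfl⟩
      refine Submodule.smul_induction_on (p := fun y => upR E b • y = 0) hs (fun r hr y _ => ?_)
        fun a c ha hc => by rw [smul_add, ha, hc, add_zero]
      rw [Ideal.map] at hr
      induction hr using Submodule.span_induction with
      | mem r hr =>
        obtain ⟨a, ha, rfl⟩ := hr
        have h2 := (annEl_upR y (b * a)).1 (h E hE y (by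
          change b * a ∈ I.ideal E hE ^ (k + 1)
          rw [pow_succ]
          exact Ideal.mul_mem_mul hb ha))
        rwa [map_mul, mul_smul] at h2
      | zero => rw [zero_smul, smul_zero]
      | add p p' _ _ hp hp' => rw [add_smul, smul_add, hp, hp', add_zero]
      | smul c p _ hp => rw [smul_assoc, smul_comm, hp, smul_zero]
    · have hsurj : ∀ E : EtOver Xs.obj, IsAffine E.obj.left.left → Function.Surjective (appE (cokernel.π ι) E) :=
        fun E hE => surjective_app (Rsh := OEt Xs.obj) (A := etAff Xs.obj) hC ((isQuasicoherent_iff_isBCEt _).1 hq₁) hE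
      have hk : KillsF hi (cokernel ι) := killsF_of_ann hi hcut fun E hE s => fun b hb => by
        rw [mem_annSect_iff]
        obtain ⟨m, rfl⟩ := hsurj E hE s
        refine ((appE (cokernel.π ι) E).map_smul (upR E b) m).symm.trans ?_
        refine ((exact_shortExact (Rsh := OEt Xs.obj) hC E).2 _).2 ?_
        exact (SubOn.mem_range_incl N hBC hE _).2 (Submodule.smul_mem_smul (Ideal.mem_map_of_mem _ hb) Submodule.mem_top)
      obtain ⟨G, ⟨eG⟩⟩ := exists_pushModEt_iso hi hk (subsingleton_of_disjoint hi hk)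
      have := isQuasicoherent_of_pushModEt_iso hi eG
      have hG : Van G q := Groth.Agent.S10754.result Z TZ hTZ e G q hq
      obtain ⟨e'⟩ := Groth.Agent.S10751.result i hi.1 haff G q
      have hpush : Van ((pushModEt hi.1).obj G) q :=
        ⟨fun a b => e'.symm.injective (@Subsingleton.elim _ hG _ _)⟩
      exact van_retract eG.inv eG.hom eG.inv_hom_id hpush

end Groth.Agent.H13Serre
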