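import Groth.Agent.H13Serre.Generated

/-!
Relations between global sections are generated by relations with global coefficients.
-/

set_option autoImplicit false
set_option backward.isDefEq.respectTransparency false
set_option linter.style.haveILetI false

universe u

open CategoryTheory CategoryTheory.Limits AlgebraicGeometry Opposite
open AlgSp Groth.Agent.H13AlgSp Groth.Agent.H12AlgSp Groth.Agent.H12AlgSp.BCMod Groth.Agent.H12AlgSp.SubExt
  Groth.Agent.H13EtMod

namespace Groth.Agent.H13Serre

variable {S : Scheme.{u}} {X : Sp S}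

/-- Scalar of a global function on an object. -/
noncomputable abbrev gf (a : ↥(gsectEt (OEt X))) (E : EtOver X) : OSec E := upR E (GlobalFun.val a E)

theorem gf_natural (a : ↥(gsectEt (OEt X))) {Z E : EtOver X} (g : Z ⟶ E) :
    ((OEt X).obj.map g.op).hom (gf a E) = gf a Z := by
  rw [upR_map]
  exact congrArg (upR Z) (GlobalFun.val_natural a g)

/-- Sections of the structure sheaf are global functions. -/
theorem exists_gf (t : (unitModEt X).sections) :
    ∃ a : ↥(gsectEt (OEt X)), ∀ E : EtOver X, gf a E = (show OSec E from sv t E) := by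
  obtain ⟨a, ha⟩ := GlobalFun.exists_gsectEt (fun E => (show OSec E from sv t E).down)
    (fun {E E'} g => congrArg ULift.down (sections_map t g))
  refine ⟨a, fun E => ?_⟩
  rw [gf, ha]
  rfl

/-- Coordinates in a finite free module. -/
theorem exists_coord (I : Type (u + 1)) [Fintype I] :
    ∃ p : I → (freeModEt X I ⟶ unitModEt X), ∀ (E : EtOver X) (t : (pm (freeModEt X I)).obj (op E)),
      t = ∑ i, (show OSec E from appL (Rsh := OEt X) (p i) E t) • basisSec (Rsh := OEt X) i E := by
  classical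
  let p : I → (freeModEt X I ⟶ unitModEt X) := fun i =>
    Cofan.IsColimit.desc (SheafOfModules.isColimitFreeCofan I) fun j => if j = i then 𝟙 (unitModEt X) else 0
  have hp : ∀ i j, SheafOfModules.ιFree j ≫ p i = if j = i then 𝟙 (unitModEt X) else 0 :=
    fun i j => Cofan.IsColimit.fac (SheafOfModules.isColimitFreeCofan I) _ j
  have hsum : ∑ i, p i ≫ SheafOfModules.ιFree i = 𝟙 (freeModEt X I) := by
    refine Cofan.IsColimit.hom_ext (SheafOfModules.isColimitFreeCofan I) _ _ fun j => ?_
    show SheafOfModules.ιFree j ≫ (∑ i, p i ≫ SheafOfModules.ιFree i) =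
      SheafOfModules.ιFree j ≫ 𝟙 (freeModEt X I)
    rw [Category.comp_id, Preadditive.comp_sum, Finset.sum_eq_single j]
    · rw [← Category.assoc, hp, if_pos rfl, Category.id_comp]
    · intro i _ hij
      rw [← Category.assoc, hp, if_neg hij.symm, zero_comp]
    · intro h
      exact absurd (Finset.mem_univ j) h
  refine ⟨p, fun E t => ?_⟩
  let G := SheafOfModules.forget (OEtRing X) ⋙ PresheafOfModules.evaluation _ (op E)
  have ht : t = ∑ i, appL (Rsh := OEt X) (SheafOfModules.ιFree i) E (appL (Rsh := OEt X) (p i) E t) := by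
    have h := congrArg (fun φ => (G.map φ).hom t) hsum
    simp only [Functor.map_sum, Functor.map_comp, CategoryTheory.Functor.map_id, ModuleCat.hom_sum,
      LinearMap.sum_apply] at h
    exact h.symm
  refine ht.trans (Finset.sum_congr rfl fun i _ => ?_)
  refine Eq.trans ?_ ((appL (Rsh := OEt X) (SheafOfModules.ιFree i) E).map_smul _ _)
  exact congrArg _ (mul_one (show OSec E from appL (Rsh := OEt X) (p i) E t)).symm

theorem appL_freeHom {M : ModEt X} {I : Type (u + 1)} (s : I → M.sections) (j : I) (E : EtOver X) :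
    appL (Rsh := OEt X) (M.freeHomEquiv.symm s) E (basisSec (Rsh := OEt X) j E) = sv (s j) E :=
  congrArg (fun q : M.sections => sv q E) (congrFun (M.freeHomEquiv.apply_symm_apply s) j)

variable [QuasiSeparatedSpace S] (hX : IsAlgSpace X) (hqc : IsQuasiCompactSp X) (hqs : IsQuasiSeparatedSp X)

include hX hqc hqs in
/-- A relation between global sections on the atlas comes from relations with global coefficients. -/
theorem exists_relation (h1 : VanH1 X) {E₀ : EtOver X} (h₀ : IsAtlas E₀) {M : ModEt X} (hM : M.IsQuasicoherent)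
    {n : ℕ} (s : Fin n → M.sections) (b : Fin n → OSec E₀) (h : ∑ j, b j • sv (s j) E₀ = 0) :
    ∃ (m : ℕ) (a : Fin n → Fin m → ↥(gsectEt (OEt X))) (b' : Fin m → OSec E₀),
      (∀ j, b j = ∑ l, gf (a j l) E₀ * b' l) ∧ ∀ l, ∑ j, gf (a j l) E₀ • sv (s j) E₀ = 0 := by
  classical
  let I := ULift.{u + 1} (Fin n)
  let φ : freeModEt X I ⟶ M := M.freeHomEquiv.symm fun i => s i.down
  have hF : (freeModEt X I).IsQuasicoherent :=
    (isQuasicoherent_iff_isBCEt _).2 (IsBCMod.free (Rsh := OEt X) (A := etAff X) I)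
  let z : (pm (freeModEt X I)).obj (op E₀) := ∑ i : I, b i.down • basisSec (Rsh := OEt X) i E₀
  have hz : appL (Rsh := OEt X) φ E₀ z = 0 := by
    rw [map_sum]
    refine Eq.trans (Finset.sum_congr rfl fun i _ => ?_) ((Equiv.sum_comp Equiv.ulift fun j => b j • sv (s j) E₀).trans h)
    rw [map_smul]
    exact congrArg (b i.down • ·) (appL_freeHom (fun i : I => s i.down) i E₀)
  obtain ⟨z', hz'⟩ := ((exact_kernel_app (Rsh := OEt X) φ E₀) z).1 hz
  have hK : (kernel φ).IsQuasicoherent := ((qcoh_closure X).2.1 _ _ φ hF hM).1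
  obtain ⟨m, c, g, hg⟩ := Submodule.mem_span_set'.1 (mem_globalSpan hX hqc hqs h1 h₀ hK z')
  choose k hk using fun l => (g l).2
  obtain ⟨p, hp⟩ := exists_coord (X := X) I
  choose a ha using fun (j : Fin n) (l : Fin m) => exists_gf
    (SheafOfModules.sectionsMap (kernel.ι φ ≫ p ⟨j⟩) (k l))
  have hexp : ∀ l, appL (Rsh := OEt X) (kernel.ι φ) E₀ (sv (k l) E₀) =
      ∑ i : I, gf (a i.down l) E₀ • basisSec (Rsh := OEt X) i E₀ := fun l => by
    refine (hp E₀ _).trans (Finset.sum_congr rfl fun i _ => ?_)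
    rw [ha]
    rfl
  refine ⟨m, a, c, fun j => ?_, fun l => ?_⟩
  · have h2 : z = ∑ i : I, (∑ l, gf (a i.down l) E₀ * c l) • basisSec (Rsh := OEt X) i E₀ := by
      rw [← hz', ← hg, map_sum]
      refine Eq.trans (Finset.sum_congr rfl fun l _ => ?_) ((Finset.sum_comm).trans
        (Finset.sum_congr rfl fun i _ => (Finset.sum_smul).symm))
      rw [map_smul, ← hk l, hexp, Finset.smul_sum]
      exact Finset.sum_congr rfl fun i _ => by rw [smul_smul, mul_comm]
    exact congrFun (Fintype.linearIndependent_iffₛ.1 (basisSec_linearIndependent (Rsh := OEt X) I E₀)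
      (fun i => b i.down) (fun i => ∑ l, gf (a i.down l) E₀ * c l) h2 |> funext) (⟨j⟩ : I)
  · have h3 : appL (Rsh := OEt X) φ E₀ (appL (Rsh := OEt X) (kernel.ι φ) E₀ (sv (k l) E₀)) = 0 :=
      (exact_kernel_app (Rsh := OEt X) φ E₀).apply_apply_eq_zero _
    rw [hexp, map_sum] at h3
    refine Eq.trans (Eq.symm (Eq.trans (Finset.sum_congr rfl fun i _ => ?_)
      (Equiv.sum_comp Equiv.ulift fun j => gf (a j l) E₀ • sv (s j) E₀))) h3
    rw [map_smul]
    exact congrArg (gf (a i.down l) E₀ • ·) (appL_freeHom (fun i : I => s i.down) i E₀)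

include hX hqc hqs in
/-- Global functions generating the unit ideal on the atlas generate it globally. -/
theorem exists_one_eq (h1 : VanH1 X) {E₀ : EtOver X} (h₀ : IsAtlas E₀) {n : ℕ}
    (a : Fin n → ↥(gsectEt (OEt X))) (b : Fin n → OSec E₀) (h : ∑ j, b j * gf (a j) E₀ = 1) :
    ∃ c : Fin n → ↥(gsectEt (OEt X)), ∑ j, gf (c j) E₀ * gf (a j) E₀ = 1 := by
  classical
  let I := ULift.{u + 1} (Fin n)
  let one : (unitModEt X).sections := PresheafOfModules.sectionsMk (fun E => (1 : (OEt X).obj.obj E))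
    (fun E E' g => map_one ((OEt X).obj.map g).hom)
  let t : Fin n → (unitModEt X).sections := fun j => PresheafOfModules.sectionsMk
    (fun E => (gf (a j) E.unop : (OEt X).obj.obj E)) (fun E E' g => gf_natural (a j) g.unop)
  let φ : freeModEt X I ⟶ unitModEt X := (unitModEt X).freeHomEquiv.symm fun i => t i.down
  have hF : (freeModEt X I).IsQuasicoherent :=
    (isQuasicoherent_iff_isBCEt _).2 (IsBCMod.free (Rsh := OEt X) (A := etAff X) I)
  have hU : (unitModEt X).IsQuasicoherent :=
    (isQuasicoherent_iff_isBCEt _).2 fun _ _ g _ _ => isBC_unit g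
  have hQ := ((qcoh_closure X).2.1 _ _ φ hF hU).2
  have hzero : ∀ y : (pm (cokernel φ)).obj (op E₀), y = 0 := fun y => by
    obtain ⟨r, rfl⟩ := surjective_of_epi (Rsh := OEt X) (A := etAff X) (cokernel.π φ)
      ((isQuasicoherent_iff_isBCEt _).1 hU) ((isQuasicoherent_iff_isBCEt _).1 hQ) h₀.1 y
    have hr : r = appL (Rsh := OEt X) φ E₀
        (∑ i : I, ((show OSec E₀ from r) * b i.down) • basisSec (Rsh := OEt X) i E₀) := by
      rw [map_sum]
      refine Eq.trans ?_ (Finset.sum_congr rfl fun i _ => ((map_smul _ _ _).trans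
        (congrArg (((show OSec E₀ from r) * b i.down) • ·) (appL_freeHom (fun i : I => t i.down) i E₀))).symm)
      refine Eq.trans ?_ (Equiv.sum_comp Equiv.ulift
        fun j => ((show OSec E₀ from r) * b j) • sv (t j) E₀).symm
      change (show OSec E₀ from r) = ∑ j, ((show OSec E₀ from r) * b j) * gf (a j) E₀
      rw [Finset.sum_congr rfl (fun j _ => mul_assoc (show OSec E₀ from r) (b j) (gf (a j) E₀)), ← Finset.mul_sum,
        h, mul_one]
    rw [hr]
    exact congrArg (fun ψ : freeModEt X I ⟶ cokernel φ => appL (Rsh := OEt X) ψ E₀ _) (cokernel.condition φ)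
  have : Epi φ := by
    refine Preadditive.epi_of_cokernel_zero ?_
    apply SheafOfModules.hom_ext
    refine PresheafOfModules.hom_ext fun E => ModuleCat.hom_ext (LinearMap.ext fun x => ?_)
    exact sec_eq_zero hX h₀ ((isQuasicoherent_iff_isBCEt _).1 hQ) hzero E.unop _
  let C := ShortComplex.mk (kernel.ι φ) φ (kernel.condition φ)
  have hC : C.ShortExact := { exact := ShortComplex.exact_of_f_is_kernel _ (kernelIsKernel φ) }
  obtain ⟨w, hw⟩ := exists_lift h1 hC ((qcoh_closure X).2.1 _ _ φ hF hU).1 one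
  obtain ⟨p, hp⟩ := exists_coord (X := X) I
  choose c hc using fun j : Fin n => exists_gf (SheafOfModules.sectionsMap (p ⟨j⟩) w)
  refine ⟨c, ?_⟩
  have h2 : appL (Rsh := OEt X) φ E₀ (sv w E₀) = (1 : OSec E₀) := congrArg (fun q : (unitModEt X).sections => sv q E₀) hw
  rw [hp E₀ (sv w E₀), map_sum] at h2
  refine Eq.trans (Eq.symm (Eq.trans (Finset.sum_congr rfl fun i _ => ?_)
    (Equiv.sum_comp Equiv.ulift fun j => gf (c j) E₀ * gf (a j) E₀))) h2
  rw [map_smul, appL_freeHom (fun i : I => t i.down) i E₀]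
  exact congrArg (· * gf (a i.down) E₀) (hc i.down E₀).symm

end Groth.Agent.H13Serre
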