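import Groth.Agent.H13AlgSp.CohDim
import Groth.Agent.H13AlgSp.EtGen
import Groth.Agent.H13AlgSp.GlobalFun
import Groth.Agent.H12AlgSp.SubExt.Basic
import Groth.Agent.H12AlgSp.QC
import Groth.Agent.H13EtMod.FiniteSec

/-!
Global sections of quasi-coherent modules on a small etale site: vanishing of `H¹` makes them exact,
and they are determined on a surjective chart.
-/

set_option autoImplicit false
set_option backward.isDefEq.respectTransparency false
set_option linter.style.haveILetI false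

universe u

open CategoryTheory CategoryTheory.Limits AlgebraicGeometry Opposite CategoryTheory.Abelian
open AlgSp Groth.Agent.H13AlgSp Groth.Agent.H12AlgSp Groth.Agent.H12AlgSp.BCMod Groth.Agent.H12AlgSp.SubExt Groth.Agent.H13EtMod

namespace Groth.Agent.H13Serre

variable {S : Scheme.{u}} {X : Sp S}

/-- Every quasi-coherent module has vanishing first cohomology. -/
def VanH1 (X : Sp S) : Prop := ∀ M : ModEt X, M.IsQuasicoherent → Subsingleton (HModEt X M 1)

/-- A chart hitting every point. -/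
def IsAtlas (E₀ : EtOver X) : Prop :=
  IsAffine E₀.obj.left.left ∧ Function.Surjective (Points.ofPt E₀.obj.hom)

theorem exists_isAtlas (hX : IsAlgSpace X) (hqc : IsQuasiCompactSp X) : ∃ E₀ : EtOver X, IsAtlas E₀ := by
  have := compactSpace_points_of_isQuasiCompactSp hqc
  obtain ⟨U, p, hU, hp, hps⟩ := exists_affine_atlas hX
  exact ⟨EtOver.mk p hp, hU, surjective_ofPt_of_repWith le_rfl hps⟩

/-- Every point of an object has an affine neighbourhood mapping to the chart. -/
theorem exists_to_atlas (hX : IsAlgSpace X) {E₀ : EtOver X} (h₀ : Function.Surjective (Points.ofPt E₀.obj.hom))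
    (E : EtOver X) (e : E.obj.left.left) :
    ∃ (W : EtOver X) (g : W ⟶ E) (_ : W ⟶ E₀) (w : W.obj.left.left),
      IsAffine W.obj.left.left ∧ g.hom.left.left w = e := by
  obtain ⟨a, ha⟩ := h₀ (Points.ofPt E.obj.hom e)
  obtain ⟨W, g₁, g₂, w, hw, -, -, -⟩ := H13AlgSp.GlobalFun.exists_common hX E E₀ e a ha.symm
  obtain ⟨V, k, v, hV, hk, -⟩ := exists_affine_etOpen w ⊤ trivial
  refine ⟨V, k ≫ g₁, k ≫ g₂, v, hV, ?_⟩
  change g₁.hom.left.left (k.hom.left.left v) = e
  rw [hk, hw]

theorem ext_of_atlas (hX : IsAlgSpace X) {E₀ : EtOver X} (h₀ : Function.Surjective (Points.ofPt E₀.obj.hom))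
    (M : ModEt X) {E : EtOver X} (a b : (pm M).obj (op E))
    (h : ∀ (W : EtOver X) (g : W ⟶ E), IsAffine W.obj.left.left → Nonempty (W ⟶ E₀) →
      ((pm M).map g.op).hom a = ((pm M).map g.op).hom b) : a = b := by
  let R : Sieve E :=
    { arrows := fun W g => ∃ (V : EtOver X) (k : W ⟶ V) (l : V ⟶ E) (_ : V ⟶ E₀),
        IsAffine V.obj.left.left ∧ k ≫ l = g
      downward_closed := by
        rintro W W' g ⟨V, k, l, m, hV, rfl⟩ r
        exact ⟨V, r ≫ k, l, m, hV, Category.assoc _ _ _⟩ }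
  refine sheaf_ext (P := pm M) M.isSheaf (R := R) (mem_etTop_of_forall_point R fun e => ?_) a b ?_
  · obtain ⟨W, g, m, w, hW, hw⟩ := exists_to_atlas hX h₀ E e
    exact ⟨W, g, w, ⟨W, 𝟙 W, g, m, hW, Category.id_comp g⟩, hw⟩
  · rintro W g ⟨V, k, l, m, hV, rfl⟩
    rw [← map_comp_sec l k a, ← map_comp_sec l k b, h V l hV ⟨m⟩]

theorem sections_map {M : ModEt X} (s : M.sections) {Z E : EtOver X} (g : Z ⟶ E) :
    ((pm M).map g.op).hom (s.1 (op E)) = s.1 (op Z) :=
  PresheafOfModules.sections_property s g.op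

/-- The value of a global section. -/
abbrev sv {M : ModEt X} (s : M.sections) (E : EtOver X) : (pm M).obj (op E) := s.1 (op E)

/-- A global section is determined by its value on a surjective chart. -/
theorem sec_ext (hX : IsAlgSpace X) {E₀ : EtOver X} (h₀ : Function.Surjective (Points.ofPt E₀.obj.hom))
    {M : ModEt X} (s t : M.sections) (h : s.1 (op E₀) = t.1 (op E₀)) : s = t := by
  refine PresheafOfModules.sections_ext s t fun E => ?_
  refine ext_of_atlas hX h₀ M (E := E.unop) _ _ fun W g _ ⟨m⟩ => ?_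
  have hs := sections_map s g
  have ht := sections_map t g
  refine hs.trans (Eq.trans ?_ ht.symm)
  rw [← sections_map s m, ← sections_map t m, h]

/-- A module commuting with base change vanishes if it vanishes on a surjective affine chart. -/
theorem sec_eq_zero (hX : IsAlgSpace X) {E₀ : EtOver X} (h₀ : IsAtlas E₀) {M : ModEt X} (hM : IsBCEt M)
    (h : ∀ x : (pm M).obj (op E₀), x = 0) (E : EtOver X) (x : (pm M).obj (op E)) : x = 0 := by
  refine ext_of_atlas hX h₀.2 M _ _ fun W g hW ⟨m⟩ => ?_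
  rw [map_zero]
  obtain ⟨t, ht⟩ := (hM m hW h₀.1).2 (toSec (pm M) m (((pm M).map g.op).hom x))
  have key : ∀ t, ext (pm M) m t = 0 := by
    intro t
    induction t with
    | zero => exact map_zero _
    | add p q hp hq => rw [map_add, hp, hq, add_zero]
    | tmul b y =>
      rw [ext_tmul]
      have : y = 0 := h (ofSec (pm M) y)
      rw [this, map_zero, smul_zero]
  exact ht.symm.trans (key t)

/-! ### Sections and morphisms from the constant sheaf -/

/-- Morphisms from the free sheaf on the base are global sections. -/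
theorem exists_hom_iff (M : ModEt X) :
    (∀ φ : (ZFree.zSh X).obj (Over.mk (𝟙 X)) ⟶ (toAbEt X).obj M, ∃ s : M.sections, ∀ E : EtOver X,
      s.1 (op E) = (ZFree.zEquiv X (Over.mk (𝟙 X)) _ φ).app (op E) (Over.homMk E.obj.hom (Category.comp_id _))) ∧
    (∀ s : M.sections, ∃ φ : (ZFree.zSh X).obj (Over.mk (𝟙 X)) ⟶ (toAbEt X).obj M, ∀ E : EtOver X,
      s.1 (op E) = (ZFree.zEquiv X (Over.mk (𝟙 X)) _ φ).app (op E) (Over.homMk E.obj.hom (Category.comp_id _))) := by
  have huniq : ∀ (E : (EtOver X)ᵒᵖ) (g : ((ZFree.hPre X).obj (Over.mk (𝟙 X))).obj E),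
      g = Over.homMk E.unop.obj.hom (Category.comp_id _) := fun E g => Over.OverMorphism.ext
    ((Category.comp_id g.left).symm.trans ((Over.w g).trans rfl))
  refine ⟨fun φ => ⟨PresheafOfModules.sectionsMk (M := M.val)
    (fun E => (ZFree.zEquiv X (Over.mk (𝟙 X)) _ φ).app E (Over.homMk E.unop.obj.hom (Category.comp_id _)))
    (fun E E' g => ?_), fun E => rfl⟩, fun s => ?_⟩
  · have h := NatTrans.naturality_apply (ZFree.zEquiv X (Over.mk (𝟙 X)) _ φ) g
      (Over.homMk E.unop.obj.hom (Category.comp_id _))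
    exact h.symm.trans (congrArg (fun z => (ZFree.zEquiv X (Over.mk (𝟙 X)) _ φ).app E' z) (huniq E' _))
  · let η : (ZFree.hPre X).obj (Over.mk (𝟙 X)) ⟶
        ((toAbEt X).obj M).obj ⋙ CategoryTheory.forget AddCommGrpCat.{u + 1} :=
      { app := fun E => ↾fun _ => s.1 E
        naturality := fun E E' g => by
          ext x
          exact (sections_map s g.unop).symm }
    refine ⟨(ZFree.zEquiv X (Over.mk (𝟙 X)) _).symm η, fun E => ?_⟩
    rw [Equiv.apply_symm_apply]
    rfl

/-- With vanishing `H¹`, global sections lift along epimorphisms. -/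
theorem exists_lift (h1 : VanH1 X) {C : ShortComplex (ModEt X)} (hC : C.ShortExact)
    (hq : C.X₁.IsQuasicoherent) (t : C.X₃.sections) :
    ∃ s : C.X₂.sections, SheafOfModules.sectionsMap C.g s = t := by
  have := H13AlgSp.EtGen.preservesFiniteColimits_toAbEt X
  have hC' := hC.map_of_exact (toAbEt X)
  obtain ⟨φ, hφ⟩ := (exists_hom_iff C.X₃).2 t
  let Z := (ZFree.zSh X).obj (Over.mk (𝟙 X))
  have : Subsingleton (Ext.{u + 1} Z ((toAbEt X).obj C.X₁) (0 + 1)) :=
    ZFree.subsingleton_of_iso (ZFree.topIso X).symm (h1 C.X₁ hq)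
  obtain ⟨x₂, hx₂⟩ := Ext.covariant_sequence_exact₃ Z hC' (Ext.mk₀ φ) (zero_add 1)
    (@Subsingleton.elim _ (show Subsingleton (Ext.{u + 1} Z (C.map (toAbEt X)).X₁ 1) from this) _ _)
  obtain ⟨ψ, rfl⟩ := Ext.homEquiv₀.symm.surjective x₂
  have hψ : ψ ≫ (toAbEt X).map C.g = φ := by
    refine Ext.homEquiv₀.symm.injective ?_
    exact (Ext.mk₀_comp_mk₀ ψ ((toAbEt X).map C.g)).symm.trans hx₂
  obtain ⟨s, hs⟩ := (exists_hom_iff C.X₂).1 ψ
  refine ⟨s, PresheafOfModules.sections_ext _ _ fun E => ?_⟩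
  change (C.g.val.app E).hom (s.1 E) = t.1 E
  rw [hφ E.unop, hs E.unop, ← hψ, ZFree.zEquiv_naturality_right]
  rfl

end Groth.Agent.H13Serre
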